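import Cfsg.Agent.S1160
import Cfsg.Agent.H10.Comp
import Cfsg.Agent.H4.SF9
import Cfsg.Agent.H15.Sz6
import Cfsg.Agent.H11.MC2

/-! Transitive linear groups of odd dimension with a normal subgroup of order prime to three. -/

set_option autoImplicit false
set_option linter.style.haveILetI false
set_option linter.unusedSectionVars false

namespace Cfsg.Agent.H15J

open Subgroup MulAction
open scoped commutatorElement

theorem sz_facts {K : Type*} [Group K] [Finite K] [IsSimpleGroup K] (hc : ¬ IsMulCommutative K)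
    (h3 : ¬ 3 ∣ Nat.card K) : ∃ e, 3 ≤ e ∧ Nat.card (Sylow 2 K) = 4 ^ e + 1 ∧
    (∀ P : Sylow 2 K, Nat.card ↥⁅(P : Subgroup K), (P : Subgroup K)⁆ = 2 ^ e ∧
      ∀ x ∈ ⁅(P : Subgroup K), (P : Subgroup K)⁆, x * x = 1) ∧
    ∀ L : Subgroup K, IsCoatom L → Odd L.index → ∀ x ∉ L, ∀ y ∉ L, ∃ l ∈ L, y⁻¹ * l * x ∈ L := by
  obtain ⟨F, _, _, m, hm, hF, ⟨e⟩⟩ := H4S.sz_of_three hc h3
  have := H15.Sz.charP_two hF
  haveI : Fact (Nat.Prime 2) := ⟨Nat.prime_two⟩
  let M0 := (H15.Sz.lieModel hm hF).ofEquiv e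
  have hF' : Nat.card F = 2 ^ (2 * m + 1) := by rw [Nat.card_eq_fintype_card, hF]
  refine ⟨2 * m + 1, by omega, ?_, fun P => ?_, fun L hL ho x hx y hy => ?_⟩
  · obtain ⟨P⟩ : Nonempty (Sylow 2 K) := inferInstance
    obtain ⟨M, -, hM⟩ := M0.exists_model_sylow P
    have := M.two_trans
    have : IsPretransitive K M.Pt := isPretransitive_of_is_two_pretransitive
    rw [P.card_eq_index_normalizer]
    change (normalizer ((P : Subgroup K) : Set K)).index = _
    rw [← hM, M.normalizer_Q, index_stabilizer_of_transitive,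
      M.card_Pt, hF', ← pow_mul, mul_comm (2 * m + 1) 2, pow_mul]
    rfl
  · obtain ⟨M, -, hM⟩ := M0.exists_model_sylow P
    rw [← hM, M.commutator_QQ, M.card_Z, hF']
    refine ⟨rfl, ?_⟩
    rintro _ ⟨b, rfl⟩
    exact M.S_mul_self_eq_one.2 rfl
  · obtain ⟨T, hT⟩ := H1.exists_isSylowIn 2 L
    have h1 : H1.IsSylowIn 2 T ⊤ := hT.trans le_top (by
      rw [relIndex_top_right]; exact ho.not_two_dvd_nat)
    obtain ⟨P, rfl⟩ := h1.exists_sylow_top
    obtain ⟨M, -, hM⟩ := M0.exists_model_sylow P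
    have hQ : M.Q ≤ L := hM ▸ hT.le
    have h2 : L = stabilizer K M.inf := by
      refine (hL.le_iff_eq M.isCoatom_stab.1).1 (fun g hg => ?_) |>.symm
      by_contra h
      exact hL.1 (M.eq_top_of_Q_le hQ hg h)
    rw [h2] at hx hy
    obtain ⟨a, b, hab⟩ := (M.pt_cases (x • M.inf)).resolve_left hx
    obtain ⟨c, d, hcd⟩ := (M.pt_cases (y • M.inf)).resolve_left hy
    refine ⟨M.S c d * (M.S a b)⁻¹, mul_mem (hQ (M.S_mem _ _)) (inv_mem (hQ (M.S_mem _ _))), ?_⟩
    rw [h2, mem_stabilizer_iff, mul_smul, mul_smul, mul_smul, hab, ← M.S_smul_zero a b,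
      inv_smul_smul, M.S_smul_zero, ← hcd, inv_smul_smul]

section grp
variable {X : Type*} [Group X] [Finite X]

theorem relIndex_dvd_step (C : Subgroup X) {A B : Subgroup X} (h : A ≤ B)
    (hn : B ≤ normalizer (A : Set X)) : C.relIndex A ∣ C.relIndex B := by
  have hT : C ⊓ B ≤ normalizer (A : Set X) := inf_le_right.trans hn
  have h1 := H10.card_sup_mul_card_inf hT
  have h2 : C ⊓ B ⊓ A = C ⊓ A := by rw [inf_assoc, inf_eq_right.2 h]
  have h3 := H1.card_inf_mul_relIndex C A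
  have h4 := H1.card_inf_mul_relIndex C B
  obtain ⟨k, hk⟩ := card_dvd_of_le (sup_le inf_le_right h : C ⊓ B ⊔ A ≤ B)
  rw [h2, ← h3] at h1
  have h5 : Nat.card ↥(C ⊓ B ⊔ A) = Nat.card ↥(C ⊓ B) * C.relIndex A :=
    Nat.eq_of_mul_eq_mul_right (Nat.card_pos (α := ↥(C ⊓ A))) (by rw [h1]; ring)
  refine ⟨k, Nat.eq_of_mul_eq_mul_left (Nat.card_pos (α := ↥(C ⊓ B))) ?_⟩
  rw [h4, hk, h5]; ring

theorem relIndex_dvd_of_subnormal (C : Subgroup X) {K : Subgroup X} (h : H10.SubnormalIn K ⊤) :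
    C.relIndex K ∣ C.index :=
  h.induction (P := fun A => C.relIndex A ∣ C.index) (by rw [relIndex_top_right])
    fun _ _ h1 _ h2 _ ih => (relIndex_dvd_step C h1 h2).trans ih

end grp

variable {X W : Type*} [Group X] [Finite X] [AddCommGroup W] [Finite W] [DistribMulAction X W]

/-- fixed vectors -/
def Fx (W : Type*) [AddCommGroup W] [DistribMulAction X W] (A : Subgroup X) : AddSubgroup W where
  carrier := {w | ∀ a ∈ A, a • w = w}
  zero_mem' a _ := smul_zero a
  add_mem' h1 h2 a ha := by rw [smul_add, h1 a ha, h2 a ha]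
  neg_mem' h a ha := by rw [smul_neg, h a ha]

/-- A faithful transitive linear group of odd dimension `f` in characteristic `p`. -/
structure Lin (X W : Type*) [Group X] [AddCommGroup W] [DistribMulAction X W] (p f : ℕ) : Prop where
  pp : p.Prime
  five : 5 ≤ p
  fo : Odd f
  card : Nat.card W = p ^ f
  ex : ∀ w : W, p • w = 0
  faith : ∀ x : X, (∀ w : W, x • w = w) → x = 1
  tr : ∀ u w : W, u ≠ 0 → w ≠ 0 → ∃ x : X, x • u = w

namespace Lin
variable {p f : ℕ} (h : Lin X W p f)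
include h

theorem po : Odd p := h.pp.odd_of_ne_two (by have := h.five; omega)

theorem eq_zero_of_two {w : W} (e : w + w = 0) : w = 0 := by
  obtain ⟨k, hk⟩ := h.po
  have := h.ex w
  rwa [hk, succ_nsmul, mul_nsmul, two_nsmul, e, nsmul_zero, zero_add] at this

theorem nontriv : ∃ w : W, w ≠ 0 := by
  have : 1 < Nat.card W := by
    rw [h.card]; exact Nat.one_lt_pow (by have := h.fo.pos; omega) h.pp.one_lt
  have := Finite.one_lt_card_iff_nontrivial.1 this
  exact exists_ne 0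

theorem card_stab (A : Subgroup X) [hA : A.Normal] {u w : W} (hu : u ≠ 0) (hw : w ≠ 0) :
    Nat.card ↥(A ⊓ stabilizer X u) = Nat.card ↥(A ⊓ stabilizer X w) := by
  obtain ⟨x, rfl⟩ := h.tr u w hu hw
  refine Nat.card_congr ⟨fun a => ⟨x * a * x⁻¹, hA.conj_mem _ a.2.1 x, ?_⟩,
    fun a => ⟨x⁻¹ * a * x, hA.conj_mem' _ a.2.1 x, ?_⟩, fun a => ?_, fun a => ?_⟩
  · have : a.1 • u = u := a.2.2
    change _ • _ = _
    rw [mul_smul, inv_smul_smul, mul_smul, this]
  · have : a.1 • x • u = x • u := a.2.2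
    change _ • _ = _
    rw [mul_smul, mul_smul, this, inv_smul_smul]
  · ext; simp [mul_assoc]
  · ext; simp [mul_assoc]

/-- an abelian normal subgroup is semiregular -/
theorem semireg (A : Subgroup X) [hA : A.Normal] (hc : ∀ a ∈ A, ∀ b ∈ A, a * b = b * a) {a : X}
    (ha : a ∈ A) {w : W} (hw : w ≠ 0) (e : a • w = w) : a = 1 := by
  have key : ∀ {u v : W}, u ≠ 0 → v ≠ 0 → (∀ b ∈ A, b • u = u → b • v = v) →
      ∀ b ∈ A, b • v = v → b • u = u := by
    intro u v hu hv huv b hb hbv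
    have : A ⊓ stabilizer X u = A ⊓ stabilizer X v :=
      eq_of_le_of_card_ge (fun b hb => ⟨hb.1, huv b hb.1 hb.2⟩) (h.card_stab A hv hu).le
    exact (show b ∈ A ⊓ stabilizer X u from this ▸ ⟨hb, hbv⟩).2
  refine h.faith a fun v => ?_
  by_contra hne
  have hv : v ≠ 0 := by rintro rfl; exact hne (smul_zero a)
  have hwv : w + v ≠ 0 := by
    intro e2
    rw [← neg_eq_iff_add_eq_zero] at e2
    exact hne (by rw [← e2, smul_neg, e])
  have hd : a • v - v ≠ 0 := sub_ne_zero.2 hne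
  have h1 : ∀ u : W, ∀ b ∈ A, b • u = u → b • (a • u - u) = a • u - u := fun u b hb hbu => by
    rw [smul_sub, ← mul_smul, hc b hb a ha, mul_smul, hbu]
  have h2 : a • (w + v) - (w + v) = a • v - v := by rw [smul_add, e]; abel
  have h3 := key hwv hd (by rw [← h2]; exact h1 _)
  refine hne (key hv hw (fun b hb hbv => ?_) a ha e)
  have := h3 b hb (h1 v b hb hbv)
  rwa [smul_add, hbv, add_left_inj] at this

omit h in
/-- stabiliser of a line -/
def St (X : Type*) [Group X] [Finite X] [DistribMulAction X W] (u : W) : Subgroup X where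
  carrier := {x | ∃ k : ℕ, x • u = k • u}
  one_mem' := ⟨1, by simp⟩
  mul_mem' := by
    rintro a b ⟨k, hk⟩ ⟨l, hl⟩
    exact ⟨l * k, by rw [mul_smul, hl, smul_comm, hk, mul_smul]⟩
  inv_mem' := by
    rintro a ⟨k, hk⟩
    have h1 : ∀ n : ℕ, a ^ n • u = k ^ n • u := fun n => by
      induction n with
      | zero => simp
      | succ n ih => rw [pow_succ, mul_smul, hk, smul_comm, ih, pow_succ', mul_smul]
    refine ⟨k ^ (orderOf a - 1), ?_⟩
    rw [← h1, inv_eq_of_mul_eq_one_right (a := a) (b := a ^ (orderOf a - 1))]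
    rw [← pow_succ', Nat.sub_add_cancel (orderOf_pos a), pow_orderOf_eq_one]

omit h in
theorem St_comm {u : W} {a b : X} (ha : a ∈ St X u) (hb : b ∈ St X u) : ⁅a, b⁆ • u = u := by
  have h1 : ∀ a ∈ St X u, ∀ b ∈ St X u, a • b • u = b • a • u := by
    rintro a ⟨k, hk⟩ b ⟨l, hl⟩
    rw [hk, hl, smul_comm a l, smul_comm b k, hk, hl, smul_comm]
  rw [commutatorElement_def, mul_smul, mul_smul, mul_smul, h1 _ (inv_mem ha) _ (inv_mem hb),
    smul_inv_smul, smul_inv_smul]

theorem addOrderOf_eq {u : W} (hu : u ≠ 0) : addOrderOf u = p :=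
  haveI := Fact.mk h.pp
  addOrderOf_eq_prime (h.ex u) hu

theorem odd_index_St {u : W} (hu : u ≠ 0) : Odd (St X u).index := by
  classical
  have hle : stabilizer X u ≤ St X u := fun x hx => ⟨1, by rw [one_smul]; exact hx⟩
  have h1 := relIndex_mul_index hle
  have h2 : (stabilizer X u).index = p ^ f - 1 := by
    rw [index_stabilizer, ← h.card, show orbit X u = {0}ᶜ from ?_, Set.ncard_compl,
      Set.ncard_singleton]
    ext w
    refine ⟨?_, fun hw => h.tr u w hu hw⟩
    rintro ⟨x, rfl⟩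
    exact (smul_ne_zero_iff_ne x).2 hu
  have h3 : (stabilizer X u).relIndex (St X u) = p - 1 := by
    have : (stabilizer X u).subgroupOf (St X u) = stabilizer (St X u) u := rfl
    rw [relIndex, this, index_stabilizer,
      show orbit (St X u) u = (AddSubgroup.zmultiples u : Set W) \ {0} from ?_,
      Set.ncard_sdiff_singleton_of_mem (zero_mem _), ← Nat.card_coe_set_eq, SetLike.coe_sort_coe,
      Nat.card_zmultiples, h.addOrderOf_eq hu]
    ext w
    constructor
    · rintro ⟨⟨x, k, hk⟩, rfl⟩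
      refine ⟨?_, (smul_ne_zero_iff_ne x).2 hu⟩
      change x • u ∈ AddSubgroup.zmultiples u
      rw [hk]; exact nsmul_mem (AddSubgroup.mem_zmultiples u) k
    · rintro ⟨h1, h2⟩
      obtain ⟨x, hx⟩ := h.tr u w hu h2
      obtain ⟨k, hk⟩ := (mem_multiples_iff_mem_zmultiples).2 h1
      exact ⟨⟨x, k, hx.trans hk.symm⟩, hx⟩
  rw [h2, h3] at h1
  have h4 := Nat.geomSum_eq (m := p) (by have := h.five; omega) f
  have h5 : (St X u).index = ∑ k ∈ Finset.range f, p ^ k := by
    rw [h4, ← h1, Nat.mul_div_cancel_left _ (by have := h.five; omega)]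
  rw [h5, Finset.odd_sum_iff_odd_card_odd, Finset.filter_true_of_mem fun k _ => h.po.pow]
  simpa using h.fo

end Lin

end Cfsg.Agent.H15J
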