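import Cfsg.Agent.H15J.A

/-! The involutions of the normal subgroup of order prime to three. -/

set_option autoImplicit false
set_option linter.style.haveILetI false
set_option linter.unusedSectionVars false

namespace Cfsg.Agent.H15J

open Subgroup MulAction
open scoped commutatorElement

variable {X W : Type*} [Group X] [Finite X] [AddCommGroup W] [Finite W] [DistribMulAction X W]

namespace Lin
variable {p f : ℕ} (h : Lin X W p f)
include h

theorem card_step {B C : AddSubgroup W} (hBC : B ≤ C) {v : W} (hv : v ∈ C) (hvB : v ∉ B) :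
    Nat.card B * p ≤ Nat.card C := by
  haveI := Fact.mk h.pp
  obtain ⟨k, hk⟩ := AddSubgroup.card_dvd_of_le hBC
  obtain ⟨i, -, hi⟩ := (Nat.dvd_prime_pow h.pp).1 (h.card ▸ (Dvd.intro_left _ hk.symm).trans
    C.card_addSubgroup_dvd_card)
  rw [hk, hi]
  refine Nat.mul_le_mul_left _ (Nat.le_self_pow ?_ p)
  rintro rfl
  rw [hi, pow_zero, mul_one] at hk
  exact hvB (AddSubgroup.eq_of_le_of_card_ge hBC hk.le ▸ hv)

/-- an elementary abelian group of order `2 ^ e` has fixed space of codimension at least `e` -/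
theorem codim (e : ℕ) : ∀ A : Subgroup X, Nat.card A = 2 ^ e → (∀ a ∈ A, a * a = 1) →
    Nat.card (Fx W A) * p ^ e ≤ Nat.card W := by
  induction e with
  | zero => intro A _ _; simpa using (Fx W A).card_le_card_addGroup
  | succ e ih =>
    intro A hA h2
    have hc : ∀ a ∈ A, ∀ b ∈ A, a * b = b * a := fun a ha b hb => by
      rw [← inv_eq_of_mul_eq_one_right (h2 _ (mul_mem ha hb)), mul_inv_rev,
        inv_eq_of_mul_eq_one_right (h2 a ha), inv_eq_of_mul_eq_one_right (h2 b hb)]
    have hne : ∃ v : W, v ∉ Fx W A := by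
      by_contra! hh
      have : A = ⊥ := eq_bot_iff.2 fun a ha => h.faith a fun w => hh w a ha
      rw [this, card_bot] at hA
      exact (Nat.one_lt_two_pow e.succ_ne_zero).ne hA
    obtain ⟨v0, hv0, hmax⟩ := Set.exists_max_image {v : W | v ∉ Fx W A}
      (fun v => Nat.card ↥(A ⊓ stabilizer X v)) (Set.toFinite _) hne
    obtain ⟨a, ha, hav⟩ : ∃ a ∈ A, a • v0 ≠ v0 := by
      by_contra! hh; exact hv0 hh
    set v := v0 - a • v0 with hv
    have h3 : a • v = -v := by rw [hv, smul_sub, ← mul_smul, h2 a ha, one_smul, neg_sub]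
    have hvn : v ≠ 0 := sub_ne_zero.2 hav.symm
    have h4 : ∀ w : W, w ≠ 0 → a • w = -w → w ∉ Fx W A := fun w hw e1 e2 =>
      hw (h.eq_zero_of_two (by rw [← eq_neg_iff_add_eq_zero, ← e1, e2 a ha]))
    have h5 : A ⊓ stabilizer X v0 ≤ A ⊓ stabilizer X v := fun b hb => ⟨hb.1, by
      have : b • v0 = v0 := hb.2
      change b • v = v
      rw [hv, smul_sub, ← mul_smul, hc b hb.1 a ha, mul_smul, this]⟩
    have h6 : ∀ b ∈ A, b • v = v ∨ b • v = -v := fun b hb => by
      by_cases e1 : v + b • v = 0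
      · exact .inr (neg_eq_of_add_eq_zero_right e1).symm
      left
      have h7 : A ⊓ stabilizer X v ≤ A ⊓ stabilizer X (v + b • v) := fun c hc' => ⟨hc'.1, by
        have : c • v = v := hc'.2
        change c • _ = _
        rw [smul_add, ← mul_smul, hc c hc'.1 b hb, mul_smul, this]⟩
      have h8 := eq_of_le_of_card_ge h7 ((hmax _ (h4 _ e1 (by
        rw [smul_add, ← mul_smul, hc a ha b hb, mul_smul, h3, smul_neg, neg_add]))).trans
          (card_le_of_le h5))
      exact (show b ∈ A ⊓ stabilizer X v from h8 ▸ ⟨hb, by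
        change b • _ = _
        rw [smul_add, ← mul_smul, h2 b hb, one_smul, add_comm]⟩).2
    have h9 : (stabilizer X v).relIndex A = 2 := by
      refine H11.relIndex_eq_two_of ha (fun e1 => ?_) fun b hb => (h6 b hb).imp id fun e1 => ?_
      · exact hvn (h.eq_zero_of_two (by rw [← eq_neg_iff_add_eq_zero, ← h3]; exact e1.symm))
      · change _ • _ = _
        rw [mul_smul, h3, smul_neg, e1, neg_neg]
    have h10 := H1.card_inf_mul_relIndex (stabilizer X v) A
    rw [h9, hA, pow_succ] at h10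
    have h11 := ih (stabilizer X v ⊓ A) (Nat.eq_of_mul_eq_mul_right two_pos h10)
      fun b hb => h2 b hb.2
    refine le_trans ?_ h11
    rw [pow_succ', ← mul_assoc]
    exact Nat.mul_le_mul_right _ (h.card_step (fun w hw b hb => hw b hb.2) (fun b hb => hb.1)
      (h4 v hvn h3))

theorem not_sq (k : ℕ) : Nat.card W ≠ k * k := fun e => by
  have h1 := congrArg (fun n => n.factorization p) (h.card.symm.trans e)
  have hk : k ≠ 0 := by rintro rfl; exact Nat.card_pos.ne' e
  simp only [Nat.factorization_mul hk hk, Finsupp.add_apply, h.pp.factorization_pow,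
    Finsupp.single_eq_same] at h1
  exact (Nat.not_even_iff_odd.2 h.fo) ⟨_, h1⟩

theorem comm_of_invol {u g : X} (hu : u * u = 1) (hg : ∀ w : W, (u * g * u) • w = g • w → w = 0) :
    False := by
  obtain ⟨k, hk⟩ := h.po
  have half : ∀ w : W, (k + 1) • w + (k + 1) • w = w := fun w => by
    rw [← add_nsmul, show k + 1 + (k + 1) = p + 1 by omega, succ_nsmul, h.ex, zero_add]
  have huu : ∀ w : W, u • u • w = w := fun w => by rw [← mul_smul, hu, one_smul]
  let P := {w : W // u • w = w}
  let N := {w : W // u • w = -w}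
  have h1 : Nat.card W = Nat.card P * Nat.card N := by
    rw [← Nat.card_prod]
    refine Nat.card_congr ⟨fun w => (⟨(k + 1) • (w + u • w), ?_⟩, ⟨(k + 1) • (w - u • w), ?_⟩),
      fun x => x.1.1 + x.2.1, fun w => ?_, fun x => ?_⟩
    · rw [smul_comm, smul_add u, huu, add_comm w]
    · rw [smul_comm, smul_sub u, huu, ← smul_neg, neg_sub]
    · change (k + 1) • (w + u • w) + (k + 1) • (w - u • w) = w
      rw [← smul_add, add_add_sub_cancel, smul_add, half]
    · obtain ⟨⟨a, ha⟩, ⟨b, hb⟩⟩ := x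
      ext
      · change (k + 1) • (a + b + u • (a + b)) = a
        rw [smul_add u, ha, hb, show a + b + (a + -b) = a + a by abel, smul_add, half]
      · change (k + 1) • (a + b - u • (a + b)) = b
        rw [smul_add u, ha, hb, show a + b - (a + -b) = b + b by abel, smul_add, half]
  have hψ : Function.Injective fun w : W => g • w - (u * g * u) • w := fun a b e => by
    refine sub_eq_zero.1 (hg _ ?_)
    rw [smul_sub, smul_sub]
    have e' : g • a - (u * g * u) • a = g • b - (u * g * u) • b := e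
    rw [sub_eq_sub_iff_sub_eq_sub] at e'
    exact e'.symm
  have h2 : Nat.card P ≤ Nat.card N := Nat.card_le_card_of_injective
    (fun w => ⟨g • w.1 - (u * g * u) • w.1, by
      rw [mul_smul, mul_smul, w.2, smul_sub, huu, neg_sub]⟩)
    fun a b e => Subtype.ext (hψ (congrArg Subtype.val e))
  have h3 : Nat.card N ≤ Nat.card P := Nat.card_le_card_of_injective
    (fun w => ⟨g • w.1 - (u * g * u) • w.1, by
      rw [mul_smul, mul_smul, w.2, smul_neg, smul_neg, smul_sub, smul_neg, huu]; abel⟩)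
    fun a b e => Subtype.ext (hψ (congrArg Subtype.val e))
  exact h.not_sq _ (by rw [h1, le_antisymm h2 h3])

theorem comm_of_pgroup (R : Subgroup X) [hR : R.Normal] {r : ℕ} (hr : r.Prime)
    (hp : IsPGroup r R) : ∀ a ∈ R, ∀ b ∈ R, a * b = b * a := by
  haveI := Fact.mk hr
  intro a ha b hb
  by_cases h2 : r = 2
  · subst h2
    refine commutatorElement_eq_one_iff_mul_comm.1 (h.faith _ fun u => ?_)
    by_cases hu : u = 0
    · rw [hu, smul_zero]
    have h1 : (St X u).relIndex R = 1 := by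
      have h3 := (h.odd_index_St hu).of_dvd_nat (relIndex_dvd_of_subnormal (St X u)
        (H10.SubnormalIn.of_normal le_top (normalizer_eq_top R).ge))
      obtain ⟨n, hn⟩ := IsPGroup.iff_card.1 hp
      obtain ⟨i, -, hi⟩ := (Nat.dvd_prime_pow hr).1 (hn ▸ relIndex_dvd_card (St X u) R)
      rw [hi] at h3 ⊢
      rcases i with _ | i
      · rfl
      · exact absurd (dvd_pow_self 2 i.succ_ne_zero) h3.not_two_dvd_nat
    rw [relIndex_eq_one] at h1
    exact St_comm (h1 ha) (h1 hb)
  · haveI : FaithfulSMul R W := ⟨fun {x y} e => Subtype.ext (by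
      rw [← inv_mul_eq_one]
      exact h.faith _ fun w => by rw [mul_smul, inv_smul_eq_iff]; exact (e w).symm)⟩
    have h3 : ∀ u : W, Nat.card (stabilizer R u) = Nat.card ↥(R ⊓ stabilizer X u) := fun u => by
      rw [inf_comm, ← subgroupOf_map_subtype, card_subtype]; rfl
    have := (S1160.result h2 hp h.pp h.ex fun u w hu hw => by
      rw [h3, h3, h.card_stab R hu hw]).1
    exact congrArg Subtype.val (mul_comm' (⟨a, ha⟩ : R) ⟨b, hb⟩)

theorem comm_Fit (Y : Subgroup X) [Y.Normal] :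
    ∀ a ∈ H10.FitOf Y, ∀ b ∈ H10.FitOf Y, a * b = b * a := by
  have hn : ∀ r : ℕ, r.Prime → (H10.OpOf r Y).Normal := fun r hr => by
    haveI := Fact.mk hr
    exact normalizer_eq_top_iff.1 (top_le_iff.1 (H10.le_normalizer_OpOf (normalizer_eq_top Y).ge))
  have h1 : ∀ r s : Nat.Primes, H10.OpOf (r : ℕ) Y ≤ centralizer (H10.OpOf (s : ℕ) Y : Set X) := by
    rintro ⟨r, hr⟩ ⟨s, hs⟩
    haveI := Fact.mk hr
    haveI := Fact.mk hs
    haveI := hn r hr
    haveI := hn s hs
    by_cases e : r = s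
    · subst e
      exact fun a ha b hb => h.comm_of_pgroup _ hr H10.OpOf_isPGroup b hb a ha
    · exact commutator_eq_bot_iff_le_centralizer.1 (H10.commutator_eq_bot_of_isPGroup_of_coprime
        (by rw [normalizer_eq_top]; exact le_top) (by rw [normalizer_eq_top]; exact le_top)
        H10.OpOf_isPGroup (H10.coprime_of_isPGroup (Ne.symm e) H10.OpOf_isPGroup))
  have h2 : H10.FitOf Y ≤ centralizer (H10.FitOf Y : Set X) := by
    nth_rw 1 [H10.FitOf_eq_iSup_OpOf]
    refine iSup_le fun r => le_centralizer_iff.1 ?_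
    rw [H10.FitOf_eq_iSup_OpOf]
    exact iSup_le fun s => h1 s r
  exact fun a ha b hb => h2 hb a ha

omit h in
theorem normal_Fit (Y : Subgroup X) [Y.Normal] : (H10.FitOf Y).Normal :=
  normalizer_eq_top_iff.1 (top_le_iff.1 (H10.le_normalizer_FitOf (normalizer_eq_top Y).ge))

theorem lay_eq_bot (Y : Subgroup X) [Y.Normal] (h3 : ¬ 3 ∣ Nat.card Y) : H10.LayOf Y = ⊥ := by
  classical
  refine H10.LayOf_eq_bot_iff.2 fun K hK => ?_
  haveI := normal_Fit Y
  haveI : Fact (Nat.Prime 2) := ⟨Nat.prime_two⟩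
  have hZ := hK.1.center_le_FitOf
  have := hK.2.2
  have := hK.2.1
  obtain ⟨e, he, hS, hP, -⟩ := sz_facts (K := K ⧸ center K)
    (H10.QS.commutator_ne_bot (H10.isQuasisimple_top.2 (H10.isQuasisimple_of_surjective
      (QuotientGroup.mk'_surjective _) hK.2)) <| commutator_eq_bot_iff_le_centralizer.2 <|
      fun a _ b _ => ·.1.1 b a) fun a => h3 ((a.trans (card_quotient_dvd_card _)).trans
        (card_dvd_of_le hK.le))
  let π := QuotientGroup.mk' (center K)
  have hπ : Function.Surjective π := QuotientGroup.mk'_surjective _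
  let B : Sylow 2 (K ⧸ center K) → Subgroup K := fun Q =>
    ⁅(Q : Subgroup (K ⧸ center K)).comap π, (Q : Subgroup (K ⧸ center K)).comap π⁆
  have h1 : ∀ u : W, u ≠ 0 → ∃ Q, u ∈ Fx W ((B Q).map K.subtype) := by
    intro u hu
    have h4 := (h.odd_index_St hu).of_dvd_nat (relIndex_dvd_of_subnormal (St X u)
      (hK.1.trans (H10.SubnormalIn.of_normal le_top (normalizer_eq_top Y).ge)))
    have h5 := h4.of_dvd_nat (index_map_dvd ((St X u).subgroupOf K) hπ)
    obtain ⟨T, hT⟩ := H1.exists_isSylowIn 2 (((St X u).subgroupOf K).map π)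
    obtain ⟨Q, rfl⟩ := (hT.trans le_top (by
      rw [relIndex_top_right]; exact h5.not_two_dvd_nat)).exists_sylow_top
    refine ⟨Q, ?_⟩
    have : B Q ≤ (stabilizer X u).subgroupOf K := by
      refine commutator_le.2 fun a ha b hb => ?_
      obtain ⟨a', ha', ea⟩ := hT.le ha
      obtain ⟨b', hb', eb⟩ := hT.le hb
      obtain ⟨z, hz, rfl⟩ := (QuotientGroup.mk'_eq_mk' _).1 ea
      obtain ⟨z', hz', rfl⟩ := (QuotientGroup.mk'_eq_mk' _).1 eb
      have e1 : ⁅a' * z, b' * z'⁆ = ⁅a', b'⁆ := by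
        have c1 := mem_center_iff.1 hz
        have c2 := mem_center_iff.1 hz'
        simp only [commutatorElement_def, mul_inv_rev]
        calc a' * z * (b' * z') * (z⁻¹ * a'⁻¹) * (z'⁻¹ * b'⁻¹)
            = a' * (z * (b' * z')) * z⁻¹ * (a'⁻¹ * z'⁻¹) * b'⁻¹ := by group
          _ = a' * (b' * z' * z) * z⁻¹ * (z'⁻¹ * a'⁻¹) * b'⁻¹ := by
            rw [← c1, ← mul_inv_rev, ← c2, mul_inv_rev]
          _ = _ := by group
      rw [e1]
      exact St_comm (a := a'.1) (b := b'.1) ha' hb'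
    rintro _ ⟨b, hb, rfl⟩
    exact this hb
  have h2 : ∀ Q, Nat.card (Fx W ((B Q).map K.subtype)) * p ^ e ≤ Nat.card W ∨
      Fx W ((B Q).map K.subtype) = ⊥ := by
    intro Q
    refine or_iff_not_imp_right.2 fun hne => ?_
    obtain ⟨⟨u, hu⟩, hu0⟩ := (AddSubgroup.ne_bot_iff_exists_ne_zero).1 hne
    have hu1 : u ≠ 0 := fun e => hu0 (Subtype.ext e)
    have h6 : ∀ b ∈ B Q, π b = 1 → b = 1 := fun b hb e => Subtype.ext
      (h.semireg _ (h.comm_Fit Y) (hZ ⟨b.2, fun c hc => congrArg Subtype.val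
        (mem_center_iff.1 ((QuotientGroup.eq_one_iff b).1 e) ⟨c, hc⟩)⟩) hu1 (hu _ ⟨b, hb, rfl⟩))
    have h7 : (B Q).map π = ⁅(Q : Subgroup (K ⧸ center K)), (Q : Subgroup (K ⧸ center K))⁆ := by
      rw [map_commutator, map_comap_eq_self_of_surjective hπ]
    refine h.codim e _ ?_ ?_
    · rw [card_subtype, ← (hP Q).1, ← h7]
      refine Nat.card_congr (Equiv.ofBijective (π.subgroupMap (B Q))
        ⟨(injective_iff_map_eq_one _).2 fun b e => Subtype.ext (h6 b b.2 (congrArg Subtype.val e)),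
          π.subgroupMap_surjective _⟩)
    · rintro _ ⟨b, hb, rfl⟩
      exact congrArg Subtype.val (h6 (b * b) (mul_mem hb hb) (by
        rw [map_mul]; exact (hP Q).2 _ (h7 ▸ mem_map_of_mem π hb)))
  have := Fintype.ofFinite W
  have := Fintype.ofFinite (Sylow 2 (K ⧸ center K))
  let S : Sylow 2 (K ⧸ center K) → Finset W := fun Q =>
    Finset.univ.filter fun w => w ≠ 0 ∧ w ∈ Fx W ((B Q).map K.subtype)
  have h8 : ∀ Q, (S Q).card * p ^ e ≤ Nat.card W - 1 := by
    intro Q
    have h9 : (S Q).card + 1 = Nat.card (Fx W ((B Q).map K.subtype)) := by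
      rw [← Finset.card_insert_of_notMem (a := 0) (by simp [S]), ← Nat.card_eq_finsetCard]
      refine Nat.card_congr (Equiv.subtypeEquivRight fun w => ?_)
      by_cases hw : w = 0
      · simp [hw, zero_mem]
      · simp [S, hw]
    have h10 : 1 ≤ p ^ e := Nat.one_le_pow _ _ h.pp.pos
    rcases h2 Q with h11 | h11
    · rw [← h9, add_mul] at h11; omega
    · rw [h11, AddSubgroup.card_bot] at h9
      rw [show (S Q).card = 0 by omega]; simp
  have h12 : Nat.card W - 1 ≤ ∑ Q, (S Q).card := by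
    refine le_trans ?_ Finset.card_biUnion_le
    rw [Nat.card_eq_fintype_card, ← Finset.card_univ,
      ← Finset.card_erase_of_mem (Finset.mem_univ (0 : W))]
    refine Finset.card_le_card fun w hw => ?_
    obtain ⟨Q, hQ⟩ := h1 w (Finset.ne_of_mem_erase hw)
    simp only [Finset.mem_biUnion, Finset.mem_univ, true_and, S, Finset.mem_filter]
    exact ⟨Q, Finset.ne_of_mem_erase hw, hQ⟩
  have h13 := (Nat.mul_le_mul_right (p ^ e) h12).trans ((Finset.sum_mul _ _ _).le.trans
    (Finset.sum_le_card_nsmul _ _ _ fun Q _ => h8 Q))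
  rw [Finset.card_univ, ← Nat.card_eq_fintype_card, hS, smul_eq_mul, mul_comm] at h13
  have h14 : 1 < Nat.card W := by
    rw [h.card]; exact Nat.one_lt_pow (by have := h.fo.pos; omega) h.pp.one_lt
  have h15 := (Nat.pow_le_pow_left h.five e).trans (Nat.le_of_mul_le_mul_right h13 (by omega))
  obtain ⟨d, rfl⟩ := Nat.exists_eq_add_of_le he
  have h16 : 4 ^ d ≤ 5 ^ d := Nat.pow_le_pow_left (by norm_num) d
  have h17 : 1 ≤ 4 ^ d := Nat.one_le_pow _ _ (by norm_num)
  rw [pow_add, pow_add] at h15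
  omega

theorem invol_neg (Y : Subgroup X) [Y.Normal] (h3 : ¬ 3 ∣ Nat.card Y) {u : X} (hu : u ∈ Y)
    (h2 : u * u = 1) (h1 : u ≠ 1) (w : W) : u • w = -w := by
  haveI hF := normal_Fit Y
  have hc := h.comm_Fit Y
  have huF : u ∈ H10.FitOf Y := by
    refine H10.inf_centralizer_FitOf_le (h.lay_eq_bot Y h3) ⟨hu, fun g hg => ?_⟩
    by_contra hne
    refine h.comm_of_invol h2 (g := g) fun w e => ?_
    by_contra hw
    have h4 : u * g * u ∈ H10.FitOf Y := by
      simpa [inv_eq_of_mul_eq_one_right h2] using hF.conj_mem g hg u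
    have := h.semireg _ hc (mul_mem (inv_mem hg) h4) hw (by rw [mul_smul, e, inv_smul_smul])
    rw [inv_mul_eq_one] at this
    apply hne
    calc g * u = u * g * u * u := by rw [← this]
      _ = u * g := by rw [mul_assoc, h2, mul_one]
  rw [eq_neg_iff_add_eq_zero]
  by_contra hw
  exact h1 (h.semireg _ hc huF hw (by rw [smul_add, ← mul_smul, h2, one_smul, add_comm]))

theorem cyclic_two (Y : Subgroup X) [Y.Normal] (h3 : ¬ 3 ∣ Nat.card Y) {S : Subgroup X}
    (hS : S ≤ Y) (h2 : IsPGroup 2 S) : IsCyclic S := by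
  haveI : Fact (Nat.Prime 2) := ⟨Nat.prime_two⟩
  haveI := Fact.mk h.pp
  obtain ⟨u, hu⟩ := h.nontriv
  obtain ⟨T, hT⟩ := H1.exists_isSylowIn 2 (St X u)
  obtain ⟨k, -, hk⟩ := (hT.trans le_top (by
    rw [relIndex_top_right]; exact (h.odd_index_St hu).not_two_dvd_nat)).exists_le_conj le_top h2
  have hv : k • u ≠ 0 := (smul_ne_zero_iff_ne k).2 hu
  have h4 : ∀ s : S, ∃ n : ℕ, (s : X) • k • u = n • k • u := fun s => by
    obtain ⟨t, ht, e⟩ := hk s.2
    obtain ⟨n, hn⟩ := hT.le ht
    refine ⟨n, ?_⟩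
    rw [← e]
    change (k * t * k⁻¹) • _ = _
    rw [mul_smul, inv_smul_smul, mul_smul, hn, smul_comm]
  choose n hn using h4
  have h5 : ∀ i j : ℕ, (i : ZMod p) = j ↔ i • k • u = j • k • u := fun i j => by
    rw [ZMod.natCast_eq_natCast_iff, nsmul_eq_nsmul_iff_modEq, h.addOrderOf_eq hv]
  let φ : S →* ZMod p :=
    { toFun := fun s => n s
      map_one' := by rw [← Nat.cast_one, h5, ← hn]; simp
      map_mul' := fun a b => by
        rw [← Nat.cast_mul, h5, ← hn, coe_mul, mul_smul, hn b, smul_comm, hn a, mul_comm, mul_smul] }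
  refine isCyclic_of_injective_ringHom φ ((injective_iff_map_eq_one φ).2 fun s e => ?_)
  have h6 : (s : X) • k • u = k • u := by
    rw [hn, ← (h5 1 _).1 (by rw [Nat.cast_one]; exact e.symm), one_smul]
  by_contra hne
  obtain ⟨i, hi⟩ := h2.exists_orderOf_eq_pow s
  have h7 : 2 ∣ Nat.card (zpowers s) := by
    rw [Nat.card_zpowers, hi]
    refine dvd_pow_self 2 ?_
    rintro rfl
    exact hne (orderOf_eq_one_iff.1 hi)
  obtain ⟨⟨_, j, rfl⟩, ht⟩ := exists_prime_orderOf_dvd_card' 2 h7
  rw [← orderOf_coe, ← orderOf_coe, H11.orderOf_two_iff] at ht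
  have h8 := h.invol_neg Y h3 (hS (s ^ j).2) ht.2 ht.1 (k • u)
  have h9 : ((s ^ j : S) : X) • k • u = k • u := zpow_mem (show (s : X) ∈ stabilizer X _ from h6) j
  exact hv (h.eq_zero_of_two (by rw [← eq_neg_iff_add_eq_zero, ← h8, h9]))

end Lin

end Cfsg.Agent.H15J
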