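import Cfsg.Agent.H15J.B
import Cfsg.Agent.H15.Bin3
import Cfsg.Agent.H4.Sharp2
import Cfsg.Agent.H2.Perm8
import Cfsg.Agent.H2.Perm6
import Cfsg.Agent.GW.Cor
import Cfsg.Agent.S0741
import Cfsg.Agent.S0885
import Cfsg.Agent.S0731
import Cfsg.Agent.S0225
import Cfsg.Agent.S3224

/-! Triply transitive groups whose point stabiliser has an abelian regular normal subgroup. -/

set_option autoImplicit false
set_option linter.style.haveILetI false
set_option linter.unusedSectionVars false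

namespace Cfsg.Agent.H15J

open Subgroup MulAction
open scoped commutatorElement MatrixGroups

variable {G Ω : Type*} [Group G] [Finite G] [Fintype Ω] [MulAction G Ω] [FaithfulSMul G Ω]

theorem relIndex_stab (K : Subgroup G) (x : Ω) (s : Set Ω) (h : ∀ y, y ∈ s ↔ ∃ k ∈ K, k • x = y) :
    (stabilizer G x).relIndex K = s.ncard := by
  have : (stabilizer G x).subgroupOf K = stabilizer K x := rfl
  rw [relIndex, this, index_stabilizer]
  congr 1
  ext y
  rw [h]
  exact ⟨fun ⟨k, hk⟩ => ⟨k, k.2, hk⟩, fun ⟨k, hk, e⟩ => ⟨⟨k, hk⟩, e⟩⟩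

theorem card_stab_mul (K : Subgroup G) (x : Ω) (s : Set Ω) (h : ∀ y, y ∈ s ↔ ∃ k ∈ K, k • x = y) :
    Nat.card ↥(K ⊓ stabilizer G x) * s.ncard = Nat.card K := by
  rw [← relIndex_stab K x s h, inf_comm, H1.card_inf_mul_relIndex]

/-- triple transitivity -/
def T3 (G Ω : Type*) [Group G] [MulAction G Ω] : Prop :=
  ∀ a b c a' b' c' : Ω, a ≠ b → a ≠ c → b ≠ c → a' ≠ b' → a' ≠ c' → b' ≠ c' →
    ∃ g : G, g • a = a' ∧ g • b = b' ∧ g • c = c'

/-- at most two orbits of a two-point stabiliser -/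
def Two (H : Subgroup G) (a b : Ω) : Prop :=
  ∃ c d : Ω, ∀ x, x ≠ a → x ≠ b → ∃ h ∈ H, h • a = a ∧ h • b = b ∧ (h • c = x ∨ h • d = x)

/-- the affine situation -/
structure Aff (H V : Subgroup G) (a b : Ω) (p : ℕ) : Prop where
  mt : IsMultiplyPretransitive G Ω 3
  three : 3 ∣ Nat.card Ω
  ev : Even (Nat.card Ω)
  simple : IsSimpleGroup H
  ab : a ≠ b
  VH : V ≤ H
  Va : ∀ v ∈ V, v • a = a
  nm : ∀ g : G, g • a = a → ∀ v ∈ V, g * v * g⁻¹ ∈ V
  cm : ∀ u ∈ V, ∀ v ∈ V, u * v = v * u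
  pp : p.Prime
  ex : ∀ v ∈ V, v ^ p = 1
  tr : ∀ c d : Ω, c ≠ a → d ≠ a → ∃ v ∈ V, v • c = d
  reg : ∀ v ∈ V, ∀ c : Ω, c ≠ a → v • c = c → v = 1

namespace Aff
variable {H V : Subgroup G} [hH : H.Normal] {a b : Ω} {p : ℕ} (h : Aff H V a b p)
include h

theorem t3 : T3 G Ω := H2.Pm.mt_three_iff.1 h.mt

theorem six : 6 ≤ Nat.card Ω := by
  have h1 := h.three
  have h2 := h.ev.two_dvd
  have : Nonempty Ω := ⟨a⟩
  have := Nat.card_pos (α := Ω)
  omega

theorem smul_ne {v : G} (hv : v • a = a) {c : Ω} (hc : c ≠ a) : v • c ≠ a := fun e =>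
  hc (MulAction.injective v (e.trans hv.symm))

theorem ext {u v : G} (hu : u ∈ V) (hv : v ∈ V) {c : Ω} (hc : c ≠ a) (e : u • c = v • c) : u = v := by
  have := h.reg _ (mul_mem (inv_mem hv) hu) c hc (by rw [mul_smul, e, inv_smul_smul])
  rw [inv_mul_eq_one] at this
  exact this.symm

theorem card_V : Nat.card V + 1 = Nat.card Ω := by
  have h1 := card_stab_mul V b {a}ᶜ fun y => ⟨fun hy => h.tr b y h.ab.symm hy,
    by rintro ⟨k, hk, rfl⟩; exact h.smul_ne (h.Va k hk) h.ab.symm⟩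
  have h2 : V ⊓ stabilizer G b = ⊥ := eq_bot_iff.2 fun v hv => h.reg v hv.1 b h.ab.symm hv.2
  rw [h2, card_bot, one_mul, Set.ncard_compl, Set.ncard_singleton] at h1
  have := h.six
  omega

theorem isPGroup : IsPGroup p V := fun v => ⟨1, Subtype.ext (by simpa using h.ex v v.2)⟩

theorem exists_f : ∃ f, Nat.card V = p ^ f ∧ Odd f ∧ 5 ≤ p := by
  haveI := Fact.mk h.pp
  obtain ⟨f, hf⟩ := IsPGroup.iff_card.1 h.isPGroup
  have h1 := h.card_V
  have h2 := h.three
  have h3 := h.ev.two_dvd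
  have h4 := h.six
  rw [hf] at h1
  have hf0 : f ≠ 0 := by rintro rfl; rw [pow_zero] at h1; omega
  have h5 : ¬ 2 ∣ p := fun e => by have := e.trans (dvd_pow_self p hf0); omega
  have h6 : ¬ 3 ∣ p := fun e => by have := e.trans (dvd_pow_self p hf0); omega
  refine ⟨f, hf, Nat.not_even_iff_odd.1 ?_, by have := h.pp.two_le; omega⟩
  rintro ⟨k, rfl⟩
  rw [pow_add] at h1
  have : p ^ k % 3 = 0 ∨ p ^ k % 3 = 1 ∨ p ^ k % 3 = 2 := by omega
  have h7 := Nat.mul_mod (p ^ k) (p ^ k) 3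
  rcases this with e | e | e <;> rw [e] at h7 <;> omega

theorem odd_V : Odd (Nat.card V) := by
  have := h.card_V; have := h.ev.two_dvd; rw [Nat.odd_iff]; omega

theorem eq_one_of_sq {v : G} (hv : v ∈ V) (e : v * v = 1) : v = 1 := by
  by_contra h1
  exact H11.odd_card_iff_no_invol.1 h.odd_V v hv (H11.orderOf_two_iff.2 ⟨h1, e⟩)

theorem exists_third (x y : Ω) : ∃ c, c ≠ x ∧ c ≠ y := by
  classical
  by_contra! hh
  have : (Finset.univ : Finset Ω) ⊆ {x, y} := fun c _ => by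
    by_cases e : c = x
    · simp [e]
    · simp [hh c e]
  have h1 := (Finset.card_le_card this).trans Finset.card_le_two
  have := h.six
  rw [Finset.card_univ, ← Nat.card_eq_fintype_card] at h1
  omega

theorem exists_V : ∃ v ∈ V, v ≠ 1 := by
  obtain ⟨c, hc, hcb⟩ := h.exists_third a b
  obtain ⟨v, hv, e⟩ := h.tr b c h.ab.symm hc
  exact ⟨v, hv, by rintro rfl; exact hcb (e.symm.trans (one_smul _ _))⟩

theorem t1 (c d : Ω) : ∃ g ∈ H, g • c = d := by
  have h2 := H2.Pm.mt_le (m := 2) h.mt (by norm_num) (by have := h.six; omega)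
  have : IsPreprimitive G Ω := isPreprimitive_of_is_two_pretransitive h2
  obtain ⟨v, hv, h1⟩ := h.exists_V
  exact (H2.Pm.trans_subgroup_iff H).1 (H2.Pm.normal_trans' H fun e =>
    h1 (mem_bot.1 (e ▸ h.VH hv))) c d

theorem t2 (c d c' d' : Ω) (h1 : c ≠ d) (h2 : c' ≠ d') : ∃ g ∈ H, g • c = c' ∧ g • d = d' := by
  obtain ⟨x, hx, e1⟩ := h.t1 c a
  obtain ⟨y, hy, e2⟩ := h.t1 c' a
  obtain ⟨v, hv, e3⟩ := h.tr (x • d) (y • d') (e1 ▸ fun e => h1 (MulAction.injective x e).symm)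
    (e2 ▸ fun e => h2 (MulAction.injective y e).symm)
  refine ⟨y⁻¹ * v * x, mul_mem (mul_mem (inv_mem hy) (h.VH hv)) hx, ?_, ?_⟩
  · rw [mul_smul, mul_smul, e1, h.Va v hv, ← e2, inv_smul_smul]
  · rw [mul_smul, mul_smul, e3, inv_smul_smul]

theorem noncomm : ¬ IsMulCommutative H := fun hc => by
  obtain ⟨v, hv, h1⟩ := h.exists_V
  exact h1 (H2.Pm.eq_one_of_commute_trans h.t1 (fun g hg => congrArg Subtype.val
    (hc.1.1 ⟨v, h.VH hv⟩ ⟨g, hg⟩)) (h.Va v hv))

theorem perfect : commutator H = ⊤ :=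
  have := h.simple
  (H10.isQuasisimple_of_simple h.noncomm).1.commutator_eq_top

theorem card_Ha : Nat.card ↥(H ⊓ stabilizer G a) * Nat.card Ω = Nat.card H := by
  rw [← card_stab_mul H a Set.univ fun y => by simpa using h.t1 a y, Set.ncard_univ]

theorem card_Y : Nat.card ↥(H ⊓ stabilizer G a ⊓ stabilizer G b) * Nat.card V =
    Nat.card ↥(H ⊓ stabilizer G a) := by
  rw [← card_stab_mul (H ⊓ stabilizer G a) b {a}ᶜ fun y => ⟨fun hy => ?_, ?_⟩, Set.ncard_compl,
    Set.ncard_singleton, ← h.card_V, Nat.add_sub_cancel]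
  · obtain ⟨v, hv, e⟩ := h.tr b y h.ab.symm hy
    exact ⟨v, ⟨h.VH hv, h.Va v hv⟩, e⟩
  · rintro ⟨k, hk, rfl⟩; exact h.smul_ne hk.2 h.ab.symm

theorem even_H : Even (Nat.card H) := by
  rw [← h.card_Ha]; exact h.ev.mul_left _

theorem eq_one_of_cent {y : G} (ya : y • a = a) (yb : y • b = b) (hc : ∀ v ∈ V, y * v = v * y) :
    y = 1 :=
  eq_of_smul_eq_smul (α := Ω) fun c => by
    rw [one_smul]
    by_cases e : c = a
    · rw [e, ya]
    · obtain ⟨v, hv, rfl⟩ := h.tr b c h.ab.symm e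
      rw [← mul_smul, hc v hv, mul_smul, yb]

theorem conj_smul {y : G} (yb : y • b = b) (v : G) : (y * v * y⁻¹) • b = y • v • b := by
  rw [mul_smul, mul_smul, inv_smul_eq_iff.2 yb.symm]

theorem semireg_of_ds (hD : GW.DS H) {y : G} (hy : y ∈ H) (ya : y • a = a) (yb : y • b = b)
    {c : Ω} (ca : c ≠ a) (cb : c ≠ b) (yc : y • c = c) : y = 1 := by
  have := h.simple
  obtain ⟨v, hv, rfl⟩ := h.tr b c h.ab.symm ca
  have hv1 : v ≠ 1 := by rintro rfl; exact cb (one_smul _ _)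
  have h1 : y * v = v * y := by
    rw [← mul_inv_eq_iff_eq_mul]
    exact h.ext (h.nm y ya v hv) hv h.ab.symm (by rw [h.conj_smul yb, yc])
  refine h.eq_one_of_cent ya yb fun u hu => ?_
  have hO : oddCore H = ⊥ := (Subgroup.Normal.eq_bot_or_eq_top inferInstance).resolve_right fun e => by
    have := GW.odd_oddCore (Q := H)
    rw [e, card_top] at this
    exact Nat.not_even_iff_odd.2 this h.even_H
  rcases GW.conc_of_perfect hD.cd hO h.perfect with ⟨F, _, _, -, -, ⟨e⟩⟩ | ⟨⟨e⟩⟩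
  · have := H15.psl2_ct (k := e ⟨v, h.VH hv⟩) (a := e ⟨y, hy⟩) (b := e ⟨u, h.VH hu⟩)
      (fun e1 => hv1 (congrArg Subtype.val (e.map_eq_one_iff.1 e1)))
      (.inr fun e1 => hv1 (h.eq_one_of_sq hv (congrArg Subtype.val
        (e.map_eq_one_iff.1 ((map_mul e _ _).trans e1)))))
      (by rw [← map_mul, ← map_mul]; exact congrArg e (Subtype.ext h1))
      (by rw [← map_mul, ← map_mul]; exact congrArg e (Subtype.ext (h.cm u hu v hv)))
    rw [← map_mul, ← map_mul] at this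
    exact congrArg Subtype.val (e.injective this)
  · obtain ⟨f, hf, fo, h5⟩ := h.exists_f
    have h2 : p ^ f ∣ 2520 := by
      have := card_dvd_of_le h.VH
      rwa [hf, Nat.card_congr e.toEquiv, nat_card_alternatingGroup, Nat.card_fin] at this
    have h3 : f = 1 := by
      by_contra hne
      have h4 : p ^ 2 ∣ 2520 := (pow_dvd_pow p (by obtain ⟨k, rfl⟩ := fo; omega)).trans h2
      have h6 : p ≤ 50 := by have := Nat.le_of_dvd (by norm_num) h4; nlinarith
      have := h.pp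
      interval_cases p <;> simp_all (config := {decide := true})
    haveI := Fact.mk h.pp
    have h7 : zpowers v = V := eq_of_le_of_card_ge (zpowers_le.2 hv) (by
      rw [hf, h3, pow_one, Nat.card_zpowers, orderOf_eq_prime (h.ex v hv) hv1])
    obtain ⟨k, rfl⟩ := h7.ge hu
    exact (Commute.zpow_right h1 k).eq

theorem zass (hD : GW.DS H) : IsZassenhausGroup H Ω := by
  have := h.simple
  have h2 : ∀ c d c' d' : Ω, c ≠ d → c' ≠ d' → ∃ g : H, g • c = c' ∧ g • d = d' :=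
    fun c d c' d' h1 h2 => let ⟨g, hg, e⟩ := h.t2 c d c' d' h1 h2; ⟨⟨g, hg⟩, e⟩
  refine ⟨inferInstance, H2.Pm.mt_two_iff.2 h2, fun g x y z xy yz xz gx gy gz => ?_, ?_,
    fun N hN ht => ⟨a, ?_⟩⟩
  · obtain ⟨k, hk, e1, e2⟩ := h.t2 x y a b xy h.ab
    have : k * g * k⁻¹ = 1 := h.semireg_of_ds hD (hH.conj_mem _ g.2 k) (c := k • z)
      (by rw [← e1, mul_smul, inv_smul_smul, mul_smul]; exact congrArg _ gx)
      (by rw [← e2, mul_smul, inv_smul_smul, mul_smul]; exact congrArg _ gy)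
      (e1 ▸ fun e => xz (MulAction.injective k e).symm)
      (e2 ▸ fun e => yz (MulAction.injective k e).symm)
      (by rw [mul_smul, inv_smul_smul, mul_smul]; exact congrArg _ gz)
    exact Subtype.ext (conj_eq_one_iff.1 this)
  · by_contra! hh
    have : Nontrivial Ω := ⟨⟨a, b, h.ab⟩⟩
    obtain ⟨M, r, j, hM, -, h3, -, -, -, h4, -⟩ := H4.exists_sharp2_kernel h2
      fun g x y xy gx gy => by_contra fun e => hh g e x y xy gx gy
    rcases hM.eq_bot_or_eq_top with rfl | rfl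
    · obtain ⟨l, hl, e⟩ := h3 a b
      rw [mem_bot.1 hl, one_smul] at e
      exact h.ab e
    · exact h.noncomm ⟨⟨fun x y => h4 x trivial y trivial⟩⟩
  · rcases hN.eq_bot_or_eq_top with rfl | rfl
    · obtain ⟨⟨l, hl⟩, e⟩ := ht.exists_smul_eq a b
      obtain rfl := mem_bot.1 hl
      exact absurd (e.symm.trans (one_smul _ _)).symm h.ab
    · obtain ⟨v, hv, h1⟩ := h.exists_V
      intro e
      have : (⟨⟨v, h.VH hv⟩, trivial⟩ : (⊤ : Subgroup H)) ∈ stabilizer _ a := h.Va v hv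
      rw [e] at this
      exact h1 (congrArg (fun x : (⊤ : Subgroup H) => x.1.1) (mem_bot.1 this))

theorem card_Y' : Nat.card ↥(stabilizer H a ⊓ stabilizer H b) =
    Nat.card ↥(H ⊓ stabilizer G a ⊓ stabilizer G b) := by
  rw [inf_assoc, inf_comm H, ← subgroupOf_map_subtype (stabilizer G a ⊓ stabilizer G b) H,
    card_subtype]; rfl

theorem big (hD : GW.DS H) :
    Nat.card Ω - 2 ≤ 2 * Nat.card ↥(H ⊓ stabilizer G a ⊓ stabilizer G b) := by
  have hZ := h.zass hD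
  have hc : Nat.card (V.subgroupOf H) = Nat.card V := Nat.card_congr (subgroupOfEquivOfLe h.VH).toEquiv
  rw [← h.card_Y']
  rcases Nat.even_or_odd (Nat.card ↥(stabilizer H a ⊓ stabilizer H b)) with e | e
  · rw [Nat.card_eq_fintype_card]; exact S0741.result hZ h.ab e
  · have h1 := h.card_V
    rcases S0885.result hZ h.ab (Nat.card V) _ (by rw [h1, Nat.card_eq_fintype_card]) rfl e
      (V.subgroupOf H) (fun v hv => h.Va v hv) (by rw [hc, h1, Nat.card_eq_fintype_card])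
      (fun u hu u1 c e => by_contra fun ca => u1 (Subtype.ext (h.reg u hu c ca e))) with
        h2 | ⟨-, ⟨u, v, h2⟩, -⟩
    · omega
    · exact absurd (Subtype.ext (Subtype.ext (h.cm _ u.2 _ v.2))) h2

theorem two (hD : GW.DS H) : Two H a b := by
  set Y := H ⊓ stabilizer G a ⊓ stabilizer G b
  have h1 : ∀ c, c ≠ a → c ≠ b → (orbit Y c).ncard = Nat.card Y := fun c ca cb => by
    rw [← H2.Pm.ncard_orbit_mul c, show stabilizer Y c = ⊥ from eq_bot_iff.2 fun y hy =>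
      Subtype.ext (h.semireg_of_ds hD y.2.1.1 y.2.1.2 y.2.2 ca cb hy), card_bot, mul_one]
  have h2 : ∀ c, c ≠ a → c ≠ b → orbit Y c ⊆ {a, b}ᶜ := by
    rintro c ca cb _ ⟨y, rfl⟩ (e | e)
    · exact h.smul_ne y.2.1.2 ca e
    · exact cb (MulAction.injective y.1 (Eq.trans e y.2.2.symm))
  obtain ⟨c, ca, cb⟩ := h.exists_third a b
  by_cases h3 : ∀ x, x ≠ a → x ≠ b → x ∈ orbit Y c
  · exact ⟨c, c, fun x xa xb => let ⟨y, e⟩ := h3 x xa xb; ⟨y, y.2.1.1, y.2.1.2, y.2.2, .inl e⟩⟩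
  push Not at h3
  obtain ⟨d, da, db, hd⟩ := h3
  have h4 : Disjoint (orbit Y c) (orbit Y d) := Set.disjoint_left.2 fun x e1 e2 =>
    hd (by rw [← orbit_eq_iff.2 e1, orbit_eq_iff.2 e2]; exact mem_orbit_self d)
  have h5 : orbit Y c ∪ orbit Y d = {a, b}ᶜ := Set.eq_of_subset_of_ncard_le
    (Set.union_subset (h2 c ca cb) (h2 d da db)) (by
      rw [Set.ncard_union_eq h4, h1 c ca cb, h1 d da db, Set.ncard_compl, Set.ncard_pair h.ab,
        ← two_mul]
      exact h.big hD)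
  refine ⟨c, d, fun x xa xb => ?_⟩
  rcases (h5.ge (show x ∈ ({a, b}ᶜ : Set Ω) by simp [xa, xb])) with ⟨y, e⟩ | ⟨y, e⟩
  · exact ⟨y, y.2.1.1, y.2.1.2, y.2.2, .inl e⟩
  · exact ⟨y, y.2.1.1, y.2.1.2, y.2.2, .inr e⟩

theorem psl (hD : GW.DS H) : IsMultiplyPretransitive H Ω 3 ∨ ∃ (F : Type) (_ : Field F)
    (_ : Fintype F), Fintype.card F + 1 = Fintype.card Ω ∧ Nonempty (H ≃* PSL(2, F)) := by
  have hZ := h.zass hD
  by_cases h3 : IsMultiplyPretransitive H Ω 3
  · exact .inl h3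
  right
  obtain ⟨F, _, _, hF, ⟨e⟩⟩ := (S0731.result hZ a (V.subgroupOf H) (fun v hv => h.Va v hv)
    ⟨fun n hn g => h.nm g.1.1 g.2 n.1.1 hn⟩ ⟨⟨fun u v => Subtype.ext (Subtype.ext (h.cm _ u.2 _ v.2))⟩⟩
    fun y z ya za => by
      obtain ⟨v, hv, e⟩ := h.tr y z ya za
      exact ⟨⟨⟨v, h.VH hv⟩, hv⟩, e, fun u hu => Subtype.ext (Subtype.ext
        (h.ext u.2 hv ya (Eq.trans hu e.symm)))⟩).resolve_left fun e => h3 e.1
  refine ⟨F, inferInstance, inferInstance, ?_, ⟨e⟩⟩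
  have h1 := h.big hD
  have hY := h.card_Y
  set Y := H ⊓ stabilizer G a ⊓ stabilizer G b
  have hV := h.card_V
  have h6 := h.six
  obtain ⟨c, ca, cb⟩ := h.exists_third a b
  have h2 : 2 * Nat.card Y = Nat.card V - 1 := by
    have h4 : Nat.card Y ∣ Nat.card V - 1 := by
      have := H4.relIndex_dvd_card_sub_one Y ⊥ V (fun y hy => mem_normalizer_fintype fun v hv =>
        h.nm y hy.1.2 v hv) fun y hy v hv v1 e => mem_bot.2 (h.semireg_of_ds hD hy.1.1 hy.1.2 hy.2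
          (c := v • b) (h.smul_ne (h.Va v hv) h.ab.symm) (fun e1 => v1 (h.reg v hv b h.ab.symm e1))
          (by rw [← mul_smul, e, mul_smul, hy.2]))
      rwa [relIndex_bot_left] at this
    obtain ⟨k, hk⟩ := h4
    have h5 : k ≠ 1 := by
      rintro rfl
      apply h3
      have h7 : orbit Y c = {a, b}ᶜ := Set.eq_of_subset_of_ncard_le (by
        rintro _ ⟨y, rfl⟩ (e | e)
        · exact h.smul_ne y.2.1.2 ca e
        · exact cb (MulAction.injective y.1 (Eq.trans e y.2.2.symm))) (by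
        have := H2.Pm.ncard_orbit_mul (G := Y) c
        rw [show stabilizer Y c = ⊥ from eq_bot_iff.2 fun y hy =>
          Subtype.ext (h.semireg_of_ds hD y.2.1.1 y.2.1.2 y.2.2 ca cb hy), card_bot, mul_one] at this
        rw [this, Set.ncard_compl, Set.ncard_pair h.ab]; omega)
      have h8 : ∀ x y z : Ω, x ≠ y → x ≠ z → y ≠ z → ∃ g : H, g • a = x ∧ g • b = y ∧ g • c = z := by
        intro x y z xy xz yz
        obtain ⟨g, hg, rfl, rfl⟩ := h.t2 a b x y h.ab xy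
        obtain ⟨u, hu⟩ := h7.ge (show g⁻¹ • z ∈ ({a, b}ᶜ : Set Ω) by
          rintro (e | e)
          · exact xz (by rw [← e, smul_inv_smul])
          · exact yz (by rw [← (e : g⁻¹ • z = b), smul_inv_smul]))
        refine ⟨⟨g * u, mul_mem hg u.2.1.1⟩, (mul_smul g u.1 a).trans ?_,
          (mul_smul g u.1 b).trans ?_, (mul_smul g u.1 c).trans ?_⟩
        · exact congrArg (g • ·) u.2.1.2
        · exact congrArg (g • ·) u.2.2
        · exact (congrArg (g • ·) hu).trans (smul_inv_smul _ _)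
      refine H2.Pm.mt_three_iff.2 fun x y z x' y' z' e1 e2 e3 e4 e5 e6 => ?_
      obtain ⟨g, rfl, rfl, rfl⟩ := h8 x y z e1 e2 e3
      obtain ⟨g', rfl, rfl, rfl⟩ := h8 x' y' z' e4 e5 e6
      exact ⟨g' * g⁻¹, by simp [mul_smul]⟩
    have h9 : Nat.card Y * k ≤ Nat.card Y * 2 := by omega
    have h10 := Nat.le_of_mul_le_mul_left h9 Nat.card_pos
    have : k ≠ 0 := by rintro rfl; omega
    obtain rfl : k = 2 := by omega
    omega
  have h11 := H12.card_PSL2 (F := F) rfl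
  have hodd : Odd (Fintype.card F) := Nat.odd_iff.2 <| FiniteField.odd_card_of_char_ne_two hF
  rw [← Nat.card_congr e.toEquiv, ← h.card_Ha, ← hY, ← hV,
    Nat.gcd_eq_left (by obtain ⟨k, hk⟩ := hodd; omega), ← mul_assoc, ← mul_assoc, h2] at h11
  rw [← Nat.card_eq_fintype_card (α := Ω), ← hV, Nat.add_right_cancel_iff]
  obtain ⟨q, hq⟩ : ∃ q, Nat.card V = q + 1 := ⟨Nat.card V - 1, by omega⟩
  obtain ⟨k, hk⟩ : ∃ k, Fintype.card F = k + 1 := ⟨Fintype.card F - 1, by have := hodd.pos; omega⟩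
  rw [hq, hk, Nat.add_sub_cancel, show (k + 1) ^ 2 - 1 = k * (k + 2) by
    exact (Nat.sub_eq_iff_eq_add (Nat.one_le_pow _ (k + 1) k.succ_pos)).2 (by ring)] at h11
  rw [hq, hk]
  rcases lt_trichotomy k q with e | e | e
  · have : (k + 1) * (k * (k + 2)) < (q + 1) * (q * (q + 2)) :=
      Nat.mul_lt_mul_of_lt_of_le (by omega) (Nat.mul_le_mul e.le (by omega)) (by
        have : 0 < q := by omega
        positivity)
    nlinarith
  · rw [e]
  · have : (q + 1) * (q * (q + 2)) < (k + 1) * (k * (k + 2)) :=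
      Nat.mul_lt_mul_of_lt_of_le (by omega) (Nat.mul_le_mul e.le (by omega)) (by
        have : 0 < k := by omega
        positivity)
    nlinarith

end Aff

end Cfsg.Agent.H15J
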