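import Cfsg.Agent.H15J.C

/-! The affine situation with point stabilisers of odd order. -/

set_option autoImplicit false
set_option linter.style.haveILetI false
set_option linter.unusedSectionVars false

namespace Cfsg.Agent.H15J

open Subgroup MulAction Finset
open scoped commutatorElement MatrixGroups

theorem par {α : Type*} [DecidableEq α] (s : Finset α) (f : α → α) (hs : ∀ x ∈ s, f x ∈ s)
    (hf : ∀ x ∈ s, f (f x) = x) : #s % 2 = #{x ∈ s | f x = x} % 2 := by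
  haveI : Fact (Nat.Prime 2) := ⟨Nat.prime_two⟩
  let g : Function.End s := fun x => ⟨f x, hs x x.2⟩
  have := Equiv.Perm.card_fixedPoints_modEq (f := g) (p := 2) (n := 1)
    (funext fun x => Subtype.ext (hf x x.2))
  rw [Fintype.card_coe] at this
  rw [this, ← Fintype.card_coe]
  congr 1
  exact Fintype.card_congr ⟨fun x => ⟨x.1.1, mem_filter.2 ⟨x.1.2, congrArg Subtype.val x.2⟩⟩,
    fun x => ⟨⟨x.1, (mem_filter.1 x.2).1⟩, Subtype.ext (mem_filter.1 x.2).2⟩, fun _ => rfl,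
    fun _ => rfl⟩

theorem odd_of_unique {α : Type*} [DecidableEq α] (s : Finset α) (f : α → α)
    (hs : ∀ x ∈ s, f x ∈ s) (hf : ∀ x ∈ s, f (f x) = x) {w : α} (hw : w ∈ s) (h1 : f w = w)
    (h2 : ∀ x ∈ s, f x = x → x = w) : Odd #s := by
  rw [Nat.odd_iff, par s f hs hf, show {x ∈ s | f x = x} = {w} from
    eq_singleton_iff_unique_mem.2 ⟨mem_filter.2 ⟨hw, h1⟩, fun x hx =>
      h2 x (mem_filter.1 hx).1 (mem_filter.1 hx).2⟩, card_singleton]

theorem pow_add_one {p : ℕ} (hp : Odd p) {f : ℕ} (hf : Odd f) :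
    ∃ o, Odd o ∧ p ^ f + 1 = (p + 1) * o := by
  obtain ⟨k, rfl⟩ := hf
  induction k with
  | zero => exact ⟨1, odd_one, by simp⟩
  | succ k ih =>
    obtain ⟨o, ho, e⟩ := ih
    obtain ⟨r, rfl⟩ := hp
    refine ⟨o + 2 * r * (2 * r + 1) ^ (2 * k + 1), ho.add_even ((even_two_mul r).mul_right _), ?_⟩
    rw [mul_add (2 * r + 1 + 1), ← e]; ring

variable {G Ω : Type*} [Group G] [Finite G] [Fintype Ω] [MulAction G Ω] [FaithfulSMul G Ω]

theorem exists_invol_pow {C : Subgroup G} (hC : IsPGroup 2 C) {g : G} (hg : g ∈ C) (h1 : g ≠ 1) :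
    ∃ k : ℕ, g ^ k ≠ 1 ∧ g ^ k * g ^ k = 1 := by
  haveI : Fact (Nat.Prime 2) := ⟨Nat.prime_two⟩
  obtain ⟨i, hi⟩ := hC.exists_orderOf_eq_pow ⟨g, hg⟩
  rw [← orderOf_coe] at hi
  rcases i with _ | i
  · exact absurd (orderOf_eq_one_iff.1 hi) h1
  refine ⟨2 ^ i, pow_ne_one_of_lt_orderOf (by positivity) (by
    rw [show orderOf g = _ from hi]; exact Nat.pow_lt_pow_succ one_lt_two), ?_⟩
  rw [← pow_add, ← mul_two, ← pow_succ, ← show orderOf g = _ from hi, pow_orderOf_eq_one]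

theorem ds_of {H T : Subgroup G} (hT : H1.IsSylowIn 2 T H) {n : ℕ} (hn : 2 ≤ n)
    (e : Nonempty (T ≃* DihedralGroup n)) : GW.DS H := by
  haveI : Fact (Nat.Prime 2) := ⟨Nat.prime_two⟩
  obtain ⟨Q, rfl⟩ := hT.exists_sylow
  obtain ⟨e⟩ := e
  exact ⟨Q, n, hn, ⟨(equivMapOfInjective _ _ H.subtype_injective).trans e⟩⟩

open Classical in
/-- number of fixed points -/
noncomputable def fc (Ω : Type*) [Fintype Ω] [MulAction G Ω] (x : G) : ℕ := #{c : Ω | x • c = c}

theorem fc_conj (g x : G) : fc Ω (g * x * g⁻¹) = fc Ω x := by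
  classical
  unfold fc
  refine card_bij' (fun c _ => g⁻¹ • c) (fun c _ => g • c) (fun c hc => ?_) (fun c hc => ?_)
    (fun c _ => smul_inv_smul g c) fun c _ => inv_smul_smul g c
  · simp only [mem_filter, mem_univ, true_and] at hc ⊢
    rw [eq_inv_smul_iff, ← mul_smul, ← mul_smul, hc]
  · simp only [mem_filter, mem_univ, true_and] at hc ⊢
    rw [mul_smul, inv_smul_smul, mul_smul, hc]

namespace Aff
variable {H V : Subgroup G} [hH : H.Normal] {a b : Ω} {p : ℕ} (h : Aff H V a b p)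
include h

theorem fc_eq {w : G} (wa : w • a = a) (wb : w • b = b) : ∃ g, fc Ω w = p ^ g + 1 := by
  classical
  haveI := Fact.mk h.pp
  obtain ⟨g, hg⟩ := IsPGroup.iff_card.1 (h.isPGroup.to_inf_left (K := centralizer {w}))
  refine ⟨g, ?_⟩
  have h1 := card_stab_mul (V ⊓ centralizer {w}) b (((univ.filter fun c : Ω => w • c = c).erase a :
    Finset Ω) : Set Ω) fun y => by
    simp only [coe_erase, coe_filter, mem_univ, true_and, Set.mem_sdiff, Set.mem_ofPred_eq,
      Set.mem_singleton_iff]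
    constructor
    · rintro ⟨e, ya⟩
      obtain ⟨v, hv, rfl⟩ := h.tr b y h.ab.symm ya
      refine ⟨v, ⟨hv, mem_centralizer_singleton_iff.2 ?_⟩, rfl⟩
      rw [eq_comm, ← mul_inv_eq_iff_eq_mul]
      exact h.ext (h.nm w wa v hv) hv h.ab.symm (by rw [h.conj_smul wb, e])
    · rintro ⟨v, hv, rfl⟩
      exact ⟨by rw [← mul_smul, ← mem_centralizer_singleton_iff.1 hv.2, mul_smul, wb],
        h.smul_ne (h.Va v hv.1) h.ab.symm⟩
  rw [show V ⊓ centralizer {w} ⊓ stabilizer G b = ⊥ from eq_bot_iff.2 fun v hv =>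
    h.reg v hv.1.1 b h.ab.symm hv.2, card_bot, one_mul, Set.ncard_coe_finset, hg] at h1
  rw [← h1, card_erase_add_one (by simpa using wa)]
  unfold fc; congr

theorem not_four (ho : ∀ t ∈ H, ∀ c : Ω, t • c = c → t * t = 1 → t = 1) {w : G} (w2 : w * w = 1)
    (w1 : w ≠ 1) (wa : w • a = a) (wb : w • b = b) : ¬ 4 ∣ fc Ω w := by
  classical
  have := Fintype.ofFinite G
  let π := QuotientGroup.mk' H
  let 𝒲 : Finset G := {x | x * x = 1 ∧ π x = π w ∧ fc Ω x = fc Ω w}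
  have hm : ∀ x, x ∈ 𝒲 ↔ x * x = 1 ∧ π x = π w ∧ fc Ω x = fc Ω w := fun x => by simp [𝒲]
  have h1 : ∀ g, π g = 1 ∨ π g = π w → ∀ x ∈ 𝒲, g * x * g⁻¹ ∈ 𝒲 := fun g hg x hx => by
    obtain ⟨e1, e2, e3⟩ := (hm x).1 hx
    refine (hm _).2 ⟨by rw [show g * x * g⁻¹ * (g * x * g⁻¹) = g * (x * x) * g⁻¹ by group, e1]; simp,
      ?_, by rw [fc_conj, e3]⟩
    rw [map_mul, map_mul, map_inv, e2]
    rcases hg with e | e <;> rw [e] <;> simp
  have hπ : ∀ g ∈ H, π g = 1 := fun g hg => (QuotientGroup.eq_one_iff g).2 hg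
  have h2 : ∀ (c d : Ω), ∀ x ∈ 𝒲, x • c = d → Odd #{y ∈ 𝒲 | y • c = d} := by
    intro c d x hx xc
    obtain ⟨e1, e2, -⟩ := (hm x).1 hx
    have xi := inv_eq_of_mul_eq_one_right e1
    have xd : x • d = c := by rw [← xc, ← mul_smul, e1, one_smul]
    refine odd_of_unique _ (fun y => x * y * x⁻¹) (fun y hy => ?_) (fun y _ => ?_)
      (mem_filter.2 ⟨hx, xc⟩) (by group) fun y hy e => ?_
    · obtain ⟨hy, yc⟩ := mem_filter.1 hy
      refine mem_filter.2 ⟨h1 x (.inr e2) y hy, ?_⟩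
      rw [xi, mul_smul, mul_smul, xc, ← yc, ← mul_smul y, ((hm y).1 hy).1, one_smul, xc, yc]
    · rw [xi, show x * (x * y * x) * x = (x * x) * y * (x * x) by group, e1]; simp
    · obtain ⟨hy, yc⟩ := mem_filter.1 hy
      obtain ⟨f1, f2, -⟩ := (hm y).1 hy
      have := ho (x * y) ((QuotientGroup.eq_one_iff _).1 (by
        change π _ = 1
        rw [map_mul, e2, f2, ← map_mul, w2, map_one])) c (by rw [mul_smul, yc, xd]) (by
        rw [xi] at e
        rw [← mul_assoc, e, f1])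
      exact (eq_inv_of_mul_eq_one_right this).trans xi
  have h3 : ∀ g ∈ H, ∀ c d : Ω, #{y ∈ 𝒲 | y • g • c = g • d} = #{y ∈ 𝒲 | y • c = d} := by
    intro g hg c d
    refine card_bij' (fun y _ => g⁻¹ * y * g⁻¹⁻¹) (fun y _ => g * y * g⁻¹) (fun y hy => ?_)
      (fun y hy => ?_) (fun y _ => by group) fun y _ => by group
    · obtain ⟨hy, e⟩ := mem_filter.1 hy
      exact mem_filter.2 ⟨h1 _ (.inl (hπ _ (inv_mem hg))) y hy, by
        rw [inv_inv, mul_smul, mul_smul, e, inv_smul_smul]⟩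
    · obtain ⟨hy, e⟩ := mem_filter.1 hy
      exact mem_filter.2 ⟨h1 _ (.inl (hπ _ hg)) y hy, by rw [mul_smul, inv_smul_smul, mul_smul, e]⟩
  have hw : w ∈ 𝒲 := (hm w).2 ⟨w2, rfl, rfl⟩
  have h4 : #𝒲 * fc Ω w = #(univ : Finset Ω) * #{y ∈ 𝒲 | y • a = a} :=
    card_mul_eq_card_mul (fun x c => x • c = c) (fun x hx => by
      rw [← ((hm x).1 hx).2.2]; unfold fc; congr) fun c _ => by
      obtain ⟨g, hg, rfl⟩ := h.t1 a c
      exact h3 g hg a a
  have h5 : #{y ∈ 𝒲 | ¬ y • a = a} * 1 = #(univ.erase a) * #{y ∈ 𝒲 | y • a = b} :=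
    card_mul_eq_card_mul (fun x c => x • a = c) (fun x hx => by
      rw [Finset.card_eq_one]
      refine ⟨x • a, eq_singleton_iff_unique_mem.2 ⟨?_, fun c hc => ?_⟩⟩
      · simpa using (mem_filter.1 hx).2
      · exact (mem_filter.1 hc).2.symm) fun c hc => by
      obtain ⟨g, hg, rfl⟩ := h.tr b c h.ab.symm (ne_of_mem_erase hc)
      rw [← h3 g (h.VH hg) a b, h.Va g hg]
      congr 1
      ext y
      simp only [bipartiteBelow, mem_filter, and_assoc]
      exact and_congr_right fun _ => ⟨fun e => e.2, fun e => ⟨e ▸ ne_of_mem_erase hc, e⟩⟩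
  have h6 := card_filter_add_card_filter_not (s := 𝒲) fun y => y • a = a
  have h7 := h2 a a w hw wa
  obtain ⟨c, hc⟩ := H2.Pm.exists_smul_ne (X := Ω) w1
  obtain ⟨g, hg, e1, e2⟩ := h.t2 c (w • c) a b hc.symm h.ab
  have h8 := h2 a b _ (h1 g (.inl (hπ g hg)) w hw) (by
    rw [← e1, mul_smul, inv_smul_smul, mul_smul, e2])
  obtain ⟨f, hf, fo, h9⟩ := h.exists_f
  obtain ⟨r, hr⟩ := h.fc_eq wa wb
  have po : Odd p := h.pp.odd_of_ne_two (by omega)
  have hV := h.card_V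
  rw [card_erase_of_mem (mem_univ a), mul_one] at h5
  rw [card_univ, ← Nat.card_eq_fintype_card, ← hV, hf] at h4 h5
  intro h10
  have ro : Odd r := by
    rw [← Nat.not_even_iff_odd]
    rintro ⟨k, rfl⟩
    obtain ⟨j, hj⟩ := po.pow (n := k)
    rw [hr, pow_add, hj, show (2 * j + 1) * (2 * j + 1) + 1 = 4 * (j * j + j) + 2 by ring] at h10
    omega
  obtain ⟨o1, ho1, e3⟩ := pow_add_one po fo
  obtain ⟨o2, ho2, e4⟩ := pow_add_one po ro
  rw [← h6, h5, Nat.add_sub_cancel, hr, e3, e4] at h4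
  have h11 : (#{y ∈ 𝒲 | y • a = a} + p ^ f * #{y ∈ 𝒲 | y • a = b}) * o2 =
      o1 * #{y ∈ 𝒲 | y • a = a} := Nat.eq_of_mul_eq_mul_left (show 0 < p + 1 by omega) (by linear_combination h4)
  exact Nat.not_even_iff_odd.2 (ho1.mul h7) (h11 ▸ (h7.add_odd (po.pow.mul h8)).mul_right _)

theorem exists_invol : ∃ w : G, orderOf w = 2 ∧ w • a = a ∧ w • b = b := by
  obtain ⟨c, ca, cb⟩ := h.exists_third a b
  have h1 := card_stab_mul (stabilizer G a ⊓ stabilizer G b) c {a, b}ᶜ fun y => ⟨fun hy => by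
    obtain ⟨g, e1, e2, e3⟩ := h.t3 a b c a b y h.ab ca.symm cb.symm h.ab
      (fun e => hy (.inl e.symm)) fun e => hy (.inr e.symm)
    exact ⟨g, ⟨e1, e2⟩, e3⟩, by
    rintro ⟨k, hk, rfl⟩ (e | e)
    · exact h.smul_ne hk.1 ca e
    · exact cb (MulAction.injective k (Eq.trans e hk.2.symm))⟩
  obtain ⟨w, hw, h2⟩ := H11.exists_invol_of_even (H := stabilizer G a ⊓ stabilizer G b) (by
    rw [← h1, Set.ncard_compl, Set.ncard_pair h.ab]
    exact ((Nat.even_sub (by have := h.six; omega)).2 (by simpa using h.ev)).mul_left _)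
  exact ⟨w, h2, hw.1, hw.2⟩

theorem exists_klein : ∃ E : Subgroup G, E ≤ H ∧ IsKleinFour E := by
  have := h.simple
  by_contra! hh
  obtain ⟨z, hz, N, hN, ho, h1⟩ := S0225.result h.even_H fun E hE => hh _ (map_subtype_le E)
    (H11.isKleinFour_of_equiv hE (equivMapOfInjective _ _ H.subtype_injective).symm)
  rcases hN.eq_bot_or_eq_top with rfl | rfl
  · rcases (inferInstance : (center H).Normal).eq_bot_or_eq_top with e | e
    · refine H11.ne_one_of_orderOf_two hz (mem_bot.1 (e ▸ mem_center_iff.2 fun g => ?_))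
      exact (commutatorElement_eq_one_iff_mul_comm.1 (mem_bot.1 (h1 g))).symm
    · exact h.noncomm ⟨⟨fun x y => mem_center_iff.1 (e.ge (mem_top y)) x⟩⟩
  · rw [card_top] at ho
    exact Nat.not_even_iff_odd.2 ho h.even_H

theorem ds_of_odd (ho : ∀ t ∈ H, ∀ c : Ω, t • c = c → t * t = 1 → t = 1) : GW.DS H := by
  classical
  haveI : Fact (Nat.Prime 2) := ⟨Nat.prime_two⟩
  obtain ⟨w, hw, wa, wb⟩ := h.exists_invol
  obtain ⟨w1, w2⟩ := H11.orderOf_two_iff.1 hw
  have wi := inv_eq_of_mul_eq_one_right w2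
  have wH : w ∉ H := fun e => w1 (ho w e a wa w2)
  have hz : IsPGroup 2 (zpowers w) := IsPGroup.of_card (n := 1) (by rw [Nat.card_zpowers, hw]; rfl)
  obtain ⟨S, hS, hwS⟩ := H1.exists_isSylowIn_ge (le_sup_right : zpowers w ≤ H ⊔ zpowers w) hz
  have wS : w ∈ S := hwS (mem_zpowers w)
  have hT := hS.inf le_sup_left (by rw [normalizer_eq_top]; exact le_top)
  have h1 : ∀ s ∈ S, s ∈ H ∨ s * w ∈ H := fun s hs => by
    obtain ⟨y, hy, _, ⟨k, rfl⟩, rfl⟩ := mem_sup_of_normal_left.1 (hS.le hs)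
    have w3 : w ^ (2 : ℤ) = 1 := (zpow_two w).trans w2
    rcases Int.even_or_odd' k with ⟨j, rfl | rfl⟩
    · left; simpa only [zpow_mul, w3, one_zpow, mul_one] using hy
    · right; simpa only [zpow_add, zpow_mul, w3, one_zpow, one_mul, zpow_one, mul_assoc, w2,
        mul_one] using hy
  have h2 : ∀ C : Subgroup G, w ∈ C → Nat.card ↥(S ⊓ H ⊓ C) * 2 = Nat.card ↥(S ⊓ C) := fun C hC => by
    rw [← H1.card_inf_mul_relIndex H (S ⊓ C), H11.relIndex_eq_two_of (K := S ⊓ C) ⟨wS, hC⟩ wH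
      fun s hs => h1 s hs.1, inf_left_comm, inf_assoc]
  obtain ⟨E, hE, hk⟩ := h.exists_klein
  obtain ⟨g, hg, hE'⟩ := hT.exists_le_conj hE (H11.klein_isPGroup hk)
  have hk' : IsKleinFour (E.map (MulAut.conj g⁻¹).toMonoidHom) := H11.isKleinFour_of_equiv hk
    (equivMapOfInjective _ _ (MulAut.conj g⁻¹).injective).symm
  have hE2 : E.map (MulAut.conj g⁻¹).toMonoidHom ≤ S ⊓ H := by
    rintro _ ⟨x, hx, rfl⟩
    obtain ⟨t, ht, rfl⟩ := hE' hx
    simpa [mul_assoc] using ht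
  generalize E.map (MulAut.conj g⁻¹).toMonoidHom = E' at hk' hE2
  have h3 : 4 ∣ Nat.card ↥(S ⊓ H) := hk'.card_four ▸ card_dvd_of_le hE2
  have h4 : Nat.card ↥(S ⊓ H ⊓ centralizer {w}) = 2 := by
    have := Fintype.ofFinite G
    set C := S ⊓ H ⊓ centralizer {w}
    have h5 : IsPGroup 2 C := hT.isPGroup.to_inf_left
    have h6 : Even (Nat.card C) := by
      have := par (univ.filter (· ∈ S ⊓ H)) (fun x => w * x * w⁻¹) (fun x hx => by
        simp only [mem_filter, mem_univ, true_and] at hx ⊢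
        exact ⟨S.mul_mem (S.mul_mem wS hx.1) (S.inv_mem wS), hH.conj_mem _ hx.2 w⟩) fun x _ => by
        rw [wi, show w * (w * x * w) * w = (w * w) * x * (w * w) by group, w2]; simp
      rw [filter_filter, ← Fintype.card_subtype, ← Fintype.card_subtype, ← Nat.card_eq_fintype_card,
        ← Nat.card_eq_fintype_card] at this
      have e : Nat.card C = Nat.card {x // x ∈ S ⊓ H ∧ w * x * w⁻¹ = x} :=
        Nat.card_congr (Equiv.subtypeEquivRight fun x => by
          rw [Subgroup.mem_inf, mem_centralizer_singleton_iff, mul_inv_eq_iff_eq_mul, eq_comm])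
      rw [Nat.even_iff, e, ← this]
      change Nat.card ↥(S ⊓ H) % 2 = 0
      omega
    have h7 : Nat.card C ∣ fc Ω w := by
      let Z : SubMulAction C Ω := ⟨{c | w • c = c}, fun g c hc => by
        change w • g.1 • c = g.1 • c
        rw [← mul_smul, ← mem_centralizer_singleton_iff.1 g.2.2, mul_smul, show w • c = c from hc]⟩
      have := H15.card_dvd_of_free (G := C) (Ω := Z) ⊤ fun g _ c e => by
        by_contra g1
        obtain ⟨k, k1, k2⟩ := exists_invol_pow h5 g.2 fun e => g1 (Subtype.ext e)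
        exact k1 (ho _ (pow_mem g.2.1.2 k) c
          (pow_mem (show g.1 ∈ stabilizer G c.1 from congrArg Subtype.val e) k) k2)
      rw [Subgroup.card_top] at this
      convert this
      rw [fc, ← Fintype.card_subtype, ← Nat.card_eq_fintype_card]; rfl
    obtain ⟨k, hk⟩ := IsPGroup.iff_card.1 h5
    rw [hk] at h6 h7 ⊢
    rcases k with _ | _ | k
    · simp at h6
    · rfl
    · exact absurd (Dvd.dvd.trans ⟨2 ^ k, by ring⟩ h7) (h.not_four ho w2 w1 wa wb)
  have h8 := h2 ⊤ trivial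
  rw [inf_top_eq, inf_top_eq] at h8
  have h9 := h2 (centralizer {w}) (mem_centralizer_singleton_iff.2 rfl)
  have h10 : ∃ n e X Y, H11.MC S n e 0 X Y := by
    rcases S3224.result hS.isPGroup ⟨w, wS⟩ (by rw [← hw]; exact (orderOf_coe _).symm) (by
      rw [h4] at h9
      rw [show 4 = 2 * 2 from rfl, h9, inf_comm, ← subgroupOf_map_subtype, Subgroup.card_subtype]
      congr 3
      ext x
      simp only [mem_centralizer_singleton_iff, mem_subgroupOf, Subtype.ext_iff, Subgroup.coe_mul]) with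
      ⟨n, ⟨e⟩⟩ | e | e
    · obtain ⟨k, hk⟩ := IsPGroup.iff_card.1 hS.isPGroup
      have h11 := Nat.card_congr e.toEquiv
      rw [DihedralGroup.nat_card, hk] at h11
      obtain ⟨i, -, rfl⟩ := (Nat.dvd_prime_pow Nat.prime_two).1 (h11 ▸ Dvd.intro_left 2 rfl : n ∣ 2 ^ k)
      have h12 : 2 ≤ i := by
        rw [hk, h11] at h8
        rcases i with _ | _ | i <;> omega
      obtain ⟨X, Y, hM⟩ := H11.exists_MC_of_dihedral h12 e
      exact ⟨_, _, X, Y, hM⟩
    · obtain ⟨n, X, Y, -, hM⟩ := H11.exists_MC_of_qd e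
      exact ⟨_, _, X, Y, hM⟩
    · omega
  obtain ⟨n, e, X, Y, hM⟩ := h10
  obtain ⟨c, hc, rfl⟩ := hM.klein_eq (hE2.trans inf_le_left) hk'
  have h13 : closure {X 2, Y c} = S ⊓ H := by
    refine eq_of_le_of_card_ge ((closure_le _).2 ?_) (by
      rw [hM.card, pow_succ] at h8; rw [hM.card_M]; omega)
    rintro _ (rfl | rfl)
    · refine ⟨hM.X_mem _, ?_⟩
      rw [show (2 : ZMod (2 ^ n)) = 1 + 1 by norm_num, ← hM.XX]
      rcases h1 _ (hM.X_mem 1) with e | e
      · exact H.mul_mem e e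
      · have := H.mul_mem e (hH.conj_mem _ e w)
        rwa [show X 1 * w * (w * (X 1 * w) * w⁻¹) = X 1 * (w * w) * X 1 by group, w2, mul_one] at this
    · exact hE2 (subset_closure (.inr rfl))
  have h14 := hM.two_le
  refine ds_of hT (n := 2 ^ (n - 1)) (Nat.le_self_pow (by omega) 2) ?_
  rw [← h13]
  refine H11.nonempty_closure_equiv_dihedral (by positivity) hM.orderOf_X_two' ?_ ?_
    (hM.Y_not_mem_zpowers _ _)
  · simpa using hM.YXY_even 1 c
  · rw [hM.Y_sq, hc, hM.X_zero]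

end Aff

end Cfsg.Agent.H15J
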