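import Cfsg.Agent.H15J.D

/-! The affine situation with two-point stabilisers of even order prime to three. -/

set_option autoImplicit false
set_option linter.style.haveILetI false
set_option linter.unusedSectionVars false

namespace Cfsg.Agent.H15J

open Subgroup MulAction
open scoped commutatorElement MatrixGroups

theorem sign_four {Ω : Type*} [Fintype Ω] [DecidableEq Ω] {σ : Equiv.Perm Ω} (h4 : σ ^ 4 = 1)
    (h2 : ∀ x, σ (σ x) = x → σ x = x) :
    Equiv.Perm.sign σ = (-1) ^ ((Fintype.card Ω - Fintype.card (Function.fixedPoints σ)) / 4) := by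
  rw [Equiv.Perm.sign_of_cycleType_eq_replicate (n := 4) (by norm_num), if_neg (by decide)]
  refine Multiset.eq_replicate_card.2 fun n hn => ?_
  have h5 := (Equiv.Perm.dvd_of_mem_cycleType hn).trans (orderOf_dvd_of_pow_eq_one h4)
  have h6 := Equiv.Perm.two_le_of_mem_cycleType hn
  have h7 := Nat.le_of_dvd (by norm_num) h5
  have h8 : n ≠ 2 := by
    rintro rfl
    rw [Equiv.Perm.cycleType_def] at hn
    obtain ⟨c, hc, e⟩ := Multiset.mem_map.1 hn
    obtain ⟨c1, c2⟩ := Equiv.Perm.mem_cycleFactorsFinset_iff.1 hc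
    obtain ⟨x, hx, -⟩ := id c1
    have hx' := Equiv.Perm.mem_support.2 hx
    have h9 : c ^ 2 = 1 := by rw [← show c.support.card = 2 from e, ← c1.orderOf, pow_orderOf_eq_one]
    refine hx ((c2 x hx').trans (h2 x ?_))
    rw [← c2 x hx', ← c2 _ (Equiv.Perm.apply_mem_support.2 hx'), ← Equiv.Perm.mul_apply, ← pow_two,
      h9]; rfl
  interval_cases n <;> simp_all

variable {G Ω : Type*} [Group G] [Finite G] [Fintype Ω] [MulAction G Ω] [FaithfulSMul G Ω]

namespace Aff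
variable {H V : Subgroup G} [hH : H.Normal] {a b : Ω} {p : ℕ} (h : Aff H V a b p)
include h

theorem sign_eq [DecidableEq Ω] {g : G} (hg : g ∈ H) : Equiv.Perm.sign (toPerm g : Equiv.Perm Ω) = 1 :=
  Abelianization.commutator_subset_ker ((Equiv.Perm.sign.comp (toPermHom G Ω)).comp H.subtype)
    (h.perfect.ge (mem_top (⟨g, hg⟩ : H)))

theorem lin (h3 : ¬ 3 ∣ Nat.card ↥(H ⊓ stabilizer G a ⊓ stabilizer G b)) :
    (∀ u ∈ H ⊓ stabilizer G a ⊓ stabilizer G b, u * u = 1 → u ≠ 1 → ∀ v ∈ V, u * v * u⁻¹ = v⁻¹) ∧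
    ∀ S ≤ H ⊓ stabilizer G a ⊓ stabilizer G b, IsPGroup 2 S → IsCyclic S := by
  let X := stabilizer G a ⊓ stabilizer G b
  letI : CommGroup V := ⟨fun x y => Subtype.ext (h.cm _ x.2 _ y.2)⟩
  letI : DistribMulAction X (Additive V) :=
    { smul := fun x v => Additive.ofMul ⟨x * v.toMul * x⁻¹, h.nm x x.2.1 _ v.toMul.2⟩
      one_smul := fun v => Additive.toMul.injective (Subtype.ext (by
        change (1 : G) * _ * 1⁻¹ = _; simp))
      mul_smul := fun x y v => Additive.toMul.injective (Subtype.ext (by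
        change (x * y : G) * _ * (x * y : G)⁻¹ = x * (y * _ * (y : G)⁻¹) * (x : G)⁻¹; group))
      smul_zero := fun x => Additive.toMul.injective (Subtype.ext (by
        change (x : G) * 1 * (x : G)⁻¹ = 1; simp))
      smul_add := fun x u v => Additive.toMul.injective (Subtype.ext (by
        change (x : G) * (u.toMul * v.toMul) * (x : G)⁻¹ =
          x * u.toMul * (x : G)⁻¹ * (x * v.toMul * (x : G)⁻¹); group)) }
  have hs : ∀ (x : X) (u v : V), x • Additive.ofMul u = Additive.ofMul v ↔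
      (x : G) * u * (x : G)⁻¹ = v := fun x u v =>
    ⟨fun e => congrArg (fun w : Additive V => (w.toMul : G)) e,
      fun e => Additive.toMul.injective (Subtype.ext e)⟩
  obtain ⟨f, hf, fo, h5⟩ := h.exists_f
  have hL : Lin X (Additive V) p f := ⟨h.pp, h5, fo, hf,
    fun w => Additive.toMul.injective (Subtype.ext (h.ex _ w.toMul.2)),
    fun x hx => Subtype.ext (h.eq_one_of_cent x.2.1 x.2.2 fun v hv =>
      mul_inv_eq_iff_eq_mul.1 ((hs x ⟨v, hv⟩ ⟨v, hv⟩).1 (hx _))), fun u w hu hw => by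
    have h1 : ∀ u : Additive V, u ≠ 0 → a ≠ (u.toMul : G) • b ∧ b ≠ (u.toMul : G) • b := fun u hu =>
      ⟨(h.smul_ne (h.Va _ u.toMul.2) h.ab.symm).symm, fun e => hu (Additive.toMul.injective
        (Subtype.ext (h.reg _ u.toMul.2 b h.ab.symm e.symm)))⟩
    obtain ⟨g, e1, e2, e3⟩ := h.t3 a b _ a b _ h.ab (h1 u hu).1 (h1 u hu).2 h.ab (h1 w hw).1
      (h1 w hw).2
    exact ⟨⟨g, e1, e2⟩, (hs _ u.toMul w.toMul).2 (h.ext (h.nm g e1 _ u.toMul.2) w.toMul.2 h.ab.symm
      (by rw [h.conj_smul e2, e3]))⟩⟩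
  have h6 : ¬ 3 ∣ Nat.card (H.subgroupOf X) := by
    rwa [← card_subtype, subgroupOf_map_subtype, ← inf_assoc]
  refine ⟨fun u hu u2 u1 v hv => (hs ⟨u, hu.1.2, hu.2⟩ ⟨v, hv⟩ ⟨v, hv⟩⁻¹).1
    (hL.invol_neg _ h6 hu.1.1 (Subtype.ext u2) (fun e => u1 (congrArg Subtype.val e)) _),
    fun S hS h2 => ?_⟩
  have h7 : S ≤ X := fun s hs => ⟨(hS hs).1.2, (hS hs).2⟩
  exact (subgroupOfEquivOfLe h7).isCyclic.1 (hL.cyclic_two _ h6 (S := S.subgroupOf X)
    (fun s hs => (hS hs).1.1) h2.comap_subtype)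

theorem ds_of_even (h3 : ¬ 3 ∣ Nat.card ↥(H ⊓ stabilizer G a ⊓ stabilizer G b))
    (he : Even (Nat.card ↥(H ⊓ stabilizer G a ⊓ stabilizer G b))) : GW.DS H := by
  classical
  haveI : Fact (Nat.Prime 2) := ⟨Nat.prime_two⟩
  obtain ⟨hi, hc⟩ := h.lin h3
  have hY := h.card_Y
  set Y := H ⊓ stabilizer G a ⊓ stabilizer G b
  obtain ⟨z, hz, z0⟩ := H11.exists_invol_of_even he
  obtain ⟨z1, z2⟩ := H11.orderOf_two_iff.1 z0
  have f1 : ∀ u ∈ Y, u * u = 1 → u ≠ 1 → ∀ v ∈ V, u • v • b = v⁻¹ • b := fun u hu u2 u1 v hv => by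
    rw [← h.conj_smul hu.2, hi u hu u2 u1 v hv]
  have f2 : ∀ u ∈ Y, u * u = 1 → u ≠ 1 → u = z := fun u hu u2 u1 =>
    eq_of_smul_eq_smul (α := Ω) fun c => by
      by_cases e : c = a
      · rw [e, show u • a = a from hu.1.2, show z • a = a from hz.1.2]
      · obtain ⟨v, hv, rfl⟩ := h.tr b c h.ab.symm e
        rw [f1 u hu u2 u1 v hv, f1 z hz z2 z1 v hv]
  have f3 : ∀ c, z • c = c ↔ c = a ∨ c = b := fun c => by
    refine ⟨fun e => or_iff_not_imp_left.2 fun ca => ?_, by rintro (rfl | rfl); exacts [hz.1.2, hz.2]⟩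
    obtain ⟨v, hv, rfl⟩ := h.tr b c h.ab.symm ca
    rw [f1 z hz z2 z1 v hv] at e
    rw [h.eq_one_of_sq hv (mul_eq_one_iff_inv_eq.2 (h.ext (inv_mem hv) hv h.ab.symm e)), one_smul]
  have f4 : 4 ∣ Nat.card Ω - 2 := by
    have := h.sign_eq hz.1.1
    rw [Equiv.Perm.sign_of_pow_two_eq_one (by
      rw [← toPermHom_apply, ← map_pow, pow_two, z2, map_one]),
      show Fintype.card (Function.fixedPoints (toPerm z : Equiv.Perm Ω)) = 2 from ?_,
      neg_one_pow_eq_one_iff_even (by decide), ← Nat.card_eq_fintype_card, Nat.even_iff] at this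
    · have := h.ev.two_dvd; omega
    · rw [← Nat.card_eq_fintype_card, Nat.card_coe_set_eq, ← Set.ncard_pair h.ab]
      congr 1; ext c; exact f3 c
  let D : Subgroup G :=
    { carrier := {g | g ∈ H ∧ (g • a = a ∧ g • b = b ∨ g • a = b ∧ g • b = a)}
      one_mem' := ⟨one_mem _, .inl ⟨one_smul _ _, one_smul _ _⟩⟩
      mul_mem' := by
        rintro x y ⟨hx, e | e⟩ ⟨hy, e' | e'⟩ <;> refine ⟨mul_mem hx hy, ?_⟩ <;>
          simp [mul_smul, e.1, e.2, e'.1, e'.2]
      inv_mem' := by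
        rintro x ⟨hx, e | e⟩ <;> refine ⟨inv_mem hx, ?_⟩ <;> simp [inv_smul_eq_iff, e.1, e.2] }
  have YD : Y ≤ D := fun y hy => ⟨hy.1.1, .inl ⟨hy.1.2, hy.2⟩⟩
  obtain ⟨c, ca, cb⟩ := h.exists_third a b
  have zc : c ≠ z • c := fun e => by rcases (f3 c).1 e.symm with e | e <;> contradiction
  obtain ⟨g, hg, e1, e2⟩ := h.t2 c (z • c) a b zc h.ab
  set i := g * z * g⁻¹ with hi0
  have i2 : i * i = 1 := by rw [hi0, show g * z * g⁻¹ * (g * z * g⁻¹) = g * (z * z) * g⁻¹ by group, z2]; simp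
  have ia : i • a = b := by rw [← e1, hi0, mul_smul, inv_smul_smul, mul_smul, e2]
  have ib : i • b = a := by rw [← ia, ← mul_smul, i2, one_smul]
  have iD : i ∈ D := ⟨hH.conj_mem _ hz.1.1 g, .inr ⟨ia, ib⟩⟩
  have iY : i ∉ Y := fun e => h.ab (e.1.2.symm.trans ia)
  have f5 : ∀ x ∈ D, x ∈ Y ∨ x * i ∈ Y := by
    rintro x ⟨hx, e | e⟩
    · exact .inl ⟨⟨hx, e.1⟩, e.2⟩
    · exact .inr ⟨⟨mul_mem hx iD.1, by change _ • _ = _; rw [mul_smul, ia, e.2]⟩,
        by change _ • _ = _; rw [mul_smul, ib, e.1]⟩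
  have f6 : ∀ C ≤ D, i ∈ C → Nat.card ↥(Y ⊓ C) * 2 = Nat.card C := fun C hC hi => by
    rw [← H1.card_inf_mul_relIndex Y C, H11.relIndex_eq_two_of hi iY fun s hs => f5 s (hC hs)]
  have i1 : i ≠ 1 := fun e => iY (e ▸ one_mem _)
  obtain ⟨T, hT, iT⟩ := H1.exists_isSylowIn_ge (zpowers_le.2 iD) (IsPGroup.of_card (p := 2) (n := 1)
    (by rw [Nat.card_zpowers, H11.orderOf_two_iff.2 ⟨i1, i2⟩]; rfl))
  replace iT : i ∈ T := iT (mem_zpowers i)
  have DH : D ≤ H := fun x hx => hx.1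
  have hT' : H1.IsSylowIn 2 T H := hT.trans DH (by
    have e1 := H1.card_inf_mul_relIndex D H
    have e2 := f6 D le_rfl iD
    rw [inf_eq_left.2 YD] at e2
    rw [inf_eq_left.2 DH, ← e2, ← h.card_Ha, ← hY, mul_assoc, mul_assoc] at e1
    have e3 := Nat.eq_of_mul_eq_mul_left Nat.card_pos e1
    obtain ⟨k, hk⟩ : ∃ k, Nat.card Ω = 2 * (2 * k + 1) := ⟨(Nat.card Ω - 2) / 4, by
      have := h.six; omega⟩
    rw [hk, mul_left_comm] at e3
    rw [Nat.eq_of_mul_eq_mul_left two_pos e3]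
    exact (h.odd_V.mul (odd_two_mul_add_one k)).not_two_dvd_nat)
  have hS : IsPGroup 2 ↥(Y ⊓ T) := hT.isPGroup.to_inf_right
  obtain ⟨y, hy⟩ := (Subgroup.isCyclic_iff_exists_zpowers_eq_top _).1 (hc (Y ⊓ T) inf_le_left hS)
  have yS : y ∈ Y ⊓ T := hy ▸ mem_zpowers y
  have Sc : ∀ s ∈ Y ⊓ T, ∀ t ∈ Y ⊓ T, s * t = t * s := by
    rw [← hy]
    rintro _ ⟨k, rfl⟩ _ ⟨l, rfl⟩
    exact zpow_mul_comm _ _ _
  have f7 : ∀ s ∈ Y ⊓ T, s * i = i * s → s * s = 1 := fun s hs e => by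
    have fi : ∀ x, i • x = x ↔ x = g • a ∨ x = g • b := fun x => by
      rw [hi0, mul_smul, mul_smul, ← eq_inv_smul_iff, f3, inv_smul_eq_iff, inv_smul_eq_iff]
    have k1 : ∀ x : Ω, i • x = x → i • s • x = s • x := fun x hx => by
      rw [← mul_smul, ← e, mul_smul, hx]
    have ga := (fi _).2 (.inl rfl)
    have k2 : (s * s) • g • a = g • a := by
      rw [mul_smul]
      rcases (fi _).1 (k1 _ ga) with e3 | e3
      · rw [e3, e3]
      · rw [e3]
        refine ((fi _).1 (k1 _ ((fi _).2 (.inr rfl)))).resolve_right fun e4 => ?_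
        exact h.ab (MulAction.injective g (MulAction.injective s (e3.trans e4.symm)))
    by_contra k3
    obtain ⟨k, k4, k5⟩ := exists_invol_pow hS (mul_mem hs hs) k3
    have k6 : (s * s) ^ k • g • a = g • a := pow_mem (show s * s ∈ stabilizer G _ from k2) k
    rw [f2 _ (pow_mem (mul_mem hs.1 hs.1) k) k5 k4, f3] at k6
    rcases k6 with e3 | e3 <;> rw [e3] at ga
    · exact h.ab (ga.symm.trans ia)
    · exact h.ab (ib.symm.trans ga)
  have f8 : ∀ j ∈ T, j ∉ Y → j * j = 1 := fun j hj jY => by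
    have j1 : j * i ∈ Y ⊓ T := ⟨(f5 j (hT.le hj)).resolve_left jY, mul_mem hj iT⟩
    obtain ⟨jH, ja, jb⟩ : j ∈ H ∧ j • a = b ∧ j • b = a :=
      ⟨(hT.le hj).1, (hT.le hj).2.resolve_left fun e => jY ⟨⟨(hT.le hj).1, e.1⟩, e.2⟩⟩
    have j2 : j * j ∈ Y ⊓ T := ⟨⟨⟨mul_mem jH jH, by change _ • _ = _; rw [mul_smul, ja, jb]⟩,
      by change _ • _ = _; rw [mul_smul, jb, ja]⟩, mul_mem hj hj⟩
    have j3 := f7 _ j2 (by
      apply mul_left_cancel (a := j)
      rw [← mul_assoc j i, ← Sc _ j2 _ j1]; group)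
    by_contra j4
    have j5 := f2 _ j2.1 j3 j4
    by_cases j6 : ∀ s ∈ Y ⊓ T, s * s = 1
    · have ii := inv_eq_of_mul_eq_one_right i2
      have k1 : i * (j * i) = j * i * i := by
        by_cases k2 : j * i = 1
        · rw [k2, mul_one, one_mul]
        · have k3 := f2 _ j1.1 (j6 _ j1) k2
          have k4 : i * (j * i) * i⁻¹ = j * i := by
            rw [k3]
            refine f2 _ ⟨⟨hH.conj_mem _ hz.1.1 i, ?_⟩, ?_⟩ (by
              rw [show i * z * i⁻¹ * (i * z * i⁻¹) = i * (z * z) * i⁻¹ by group, z2]; simp)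
              (by simpa using z1) <;> change _ • _ = _ <;> rw [ii, mul_smul, mul_smul]
            · rw [ia, show z • b = b from hz.2, ib]
            · rw [ib, show z • a = a from hz.1.2, ia]
          exact mul_inv_eq_iff_eq_mul.1 k4
      apply j4
      calc j * j = j * (i * i) * j * (i * i) := by rw [i2]; simp
        _ = j * i * (i * (j * i)) * i := by group
        _ = j * i * (j * i) * (i * i) := by rw [k1]; group
        _ = 1 := by rw [j6 _ j1, i2, mul_one]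
    push Not at j6
    obtain ⟨s, hs, s2⟩ := j6
    obtain ⟨k, k4, k5⟩ := exists_invol_pow hS (mul_mem hs hs) s2
    have k6 := f2 _ (pow_mem (mul_mem hs.1 hs.1) k) k5 k4
    rw [(Commute.refl s).mul_pow] at k6
    have k7 := pow_mem hs k
    generalize s ^ k = t at k6 k7
    have key : ∀ σ : Equiv.Perm Ω, σ a = a → σ b = b → (∀ x, σ (σ x) = z • x) →
        Equiv.Perm.sign σ = (-1) ^ ((Fintype.card Ω - 2) / 4) := fun σ sa sb e => by
      have k8 : ∀ x, σ (σ x) = x → σ x = x := fun x e1 => by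
        rcases (f3 x).1 ((e x).symm.trans e1) with rfl | rfl
        exacts [sa, sb]
      rw [sign_four (Equiv.ext fun x => by
        change σ (σ (σ (σ x))) = x
        rw [e, e, ← mul_smul, z2, one_smul]) k8]
      congr 3
      rw [← Nat.card_eq_fintype_card, Nat.card_coe_set_eq, ← Set.ncard_pair h.ab]
      congr 1; ext x
      refine ⟨fun e1 => (f3 x).1 (by rw [← e, show σ x = x from e1, show σ x = x from e1]), ?_⟩
      rintro (rfl | rfl)
      exacts [sa, sb]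
    have k9 := key (toPerm t) k7.1.1.2 k7.1.2 fun x => by
      change t • t • x = _; rw [← mul_smul, k6]
    have k10 := key (Equiv.swap a b * toPerm j) (by simp [ja]) (by simp [jb]) fun x => by
      change Equiv.swap a b (j • Equiv.swap a b (j • x)) = _
      rw [← j5, mul_smul]
      by_cases xa : x = a
      · simp [xa, ja, jb]
      by_cases xb : x = b
      · simp [xb, ja, jb]
      have n1 : ∀ x, x ≠ a → x ≠ b → j • x ≠ a ∧ j • x ≠ b := fun x xa xb =>
        ⟨fun e => xb (MulAction.injective j (e.trans jb.symm)),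
          fun e => xa (MulAction.injective j (e.trans ja.symm))⟩
      have n2 := n1 x xa xb
      have n3 := n1 _ n2.1 n2.2
      rw [Equiv.swap_apply_of_ne_of_ne n2.1 n2.2, Equiv.swap_apply_of_ne_of_ne n3.1 n3.2]
    rw [map_mul, Equiv.Perm.sign_swap h.ab, h.sign_eq jH, ← k9, h.sign_eq k7.1.1.1] at k10
    exact absurd k10 (by decide)
  have f9 : closure {y, i} = T := by
    refine le_antisymm ((closure_le _).2 ?_) fun t ht => ?_
    · rintro _ (rfl | rfl)
      exacts [yS.2, iT]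
    · have k1 : Y ⊓ T ≤ closure {y, i} := hy ▸ zpowers_le.2 (subset_closure (.inl rfl))
      rcases f5 t (hT.le ht) with e | e
      · exact k1 ⟨e, ht⟩
      · exact (mul_mem_cancel_right (subset_closure (.inr rfl))).1 (k1 ⟨e, mul_mem ht iT⟩)
  obtain ⟨E, hE, hk⟩ := h.exists_klein
  have k2 := hT'.card_dvd hE (H11.klein_isPGroup hk)
  rw [hk.card_four, ← f6 T hT.le iT, ← hy, Nat.card_zpowers] at k2
  have k3 := orderOf_pos y
  refine ds_of hT' (n := orderOf y) (by omega) ?_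
  rw [← f9]
  refine H11.nonempty_closure_equiv_dihedral k3 rfl ?_ i2 fun e => iY (hy.le e).1
  rw [inv_eq_of_mul_eq_one_right i2, eq_inv_iff_mul_eq_one, mul_assoc]
  exact f8 _ (mul_mem iT yS.2) fun e => iY ((Y.mul_mem_cancel_right yS.1).1 e)

theorem ds_of_three (h3 : ∀ t ∈ H, t • a = a → t ^ 3 = 1 → t = 1) : GW.DS H := by
  rcases Nat.even_or_odd (Nat.card ↥(H ⊓ stabilizer G a ⊓ stabilizer G b)) with e | e
  · refine h.ds_of_even (fun e3 => ?_) e
    haveI : Fact (Nat.Prime 3) := ⟨Nat.prime_three⟩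
    obtain ⟨t, ht⟩ := exists_prime_orderOf_dvd_card' 3 e3
    have := h3 t t.2.1.1 t.2.1.2 (by rw [← ht, ← coe_pow, pow_orderOf_eq_one]; rfl)
    rw [show t = 1 from Subtype.ext this, orderOf_one] at ht
    exact absurd ht (by norm_num)
  · refine h.ds_of_odd fun t ht c tc t2 => by_contra fun t1 => ?_
    obtain ⟨g, -, rfl⟩ := h.t1 a c
    refine (H11.odd_card_iff_no_invol (H := H ⊓ stabilizer G a)).1 (h.card_Y ▸ e.mul h.odd_V) (g⁻¹ * t * g⁻¹⁻¹)
      ⟨hH.conj_mem _ ht _, ?_⟩ (by rw [H11.orderOf_conj]; exact H11.orderOf_two_iff.2 ⟨t1, t2⟩)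
    change _ • _ = _
    rw [inv_inv, mul_smul, mul_smul, tc, inv_smul_smul]

end Aff

end Cfsg.Agent.H15J
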