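import Cfsg.Agent.H15J.E
import Cfsg.Agent.H2.Basic

/-! Normal subgroups of triply transitive groups of degree divisible by three. -/

set_option autoImplicit false
set_option linter.style.haveILetI false
set_option linter.unusedSectionVars false

namespace Cfsg.Agent.H15J

open Subgroup MulAction
open scoped commutatorElement MatrixGroups Pointwise

section
variable {G Ω : Type*} [Group G] [MulAction G Ω]

theorem Two.mono {H K : Subgroup G} {a b : Ω} (h : Two H a b) (hK : H ≤ K) : Two K a b :=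
  let ⟨c, d, h⟩ := h
  ⟨c, d, fun x xa xb => let ⟨g, hg, e⟩ := h x xa xb; ⟨g, hK hg, e⟩⟩

theorem exists_avoid [Finite Ω] (h : 3 < Nat.card Ω) (x y z : Ω) : ∃ c, c ≠ x ∧ c ≠ y ∧ c ≠ z := by
  classical
  have := Fintype.ofFinite Ω
  by_contra! hh
  have : (Finset.univ : Finset Ω) ⊆ {x, y, z} := fun c _ => by
    by_cases e : c = x
    · simp [e]
    by_cases e' : c = y
    · simp [e']
    · simp [hh c e e']
  have h1 := (Finset.card_le_card this).trans Finset.card_le_three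
  rw [Finset.card_univ, ← Nat.card_eq_fintype_card] at h1
  omega

theorem three_of {H : Subgroup G} {a b c : Ω}
    (t2 : ∀ x y : Ω, x ≠ y → ∃ g ∈ H, g • a = x ∧ g • b = y)
    (h : ∀ x, x ≠ a → x ≠ b → ∃ y ∈ H, y • a = a ∧ y • b = b ∧ y • c = x) :
    IsMultiplyPretransitive H Ω 3 := by
  have h8 : ∀ x y z : Ω, x ≠ y → x ≠ z → y ≠ z → ∃ g : H, g • a = x ∧ g • b = y ∧ g • c = z := by
    intro x y z xy xz yz
    obtain ⟨g, hg, rfl, rfl⟩ := t2 x y xy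
    obtain ⟨u, hu, e1, e2, e3⟩ := h (g⁻¹ • z) (fun e => xz (by rw [← e, smul_inv_smul]))
      fun e => yz (by rw [← e, smul_inv_smul])
    refine ⟨⟨g * u, mul_mem hg hu⟩, (mul_smul g u a).trans (by rw [e1]),
      (mul_smul g u b).trans (by rw [e2]), (mul_smul g u c).trans (by rw [e3, smul_inv_smul])⟩
  refine H2.Pm.mt_three_iff.2 fun x y z x' y' z' e1 e2 e3 e4 e5 e6 => ?_
  obtain ⟨g, rfl, rfl, rfl⟩ := h8 x y z e1 e2 e3
  obtain ⟨g', rfl, rfl, rfl⟩ := h8 x' y' z' e4 e5 e6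
  exact ⟨g' * g⁻¹, by simp [mul_smul]⟩

theorem two_of_three {H : Subgroup G} [Finite Ω] (h3 : 3 < Nat.card Ω)
    (h : IsMultiplyPretransitive H Ω 3) {a b : Ω} (ab : a ≠ b) : Two H a b := by
  obtain ⟨c, ca, cb, -⟩ := exists_avoid h3 a b b
  refine ⟨c, c, fun x xa xb => ?_⟩
  obtain ⟨g, e1, e2, e3⟩ := H2.Pm.mt_three_iff.1 h a b c a b x ab ca.symm cb.symm ab xa.symm xb.symm
  exact ⟨g, g.2, e1, e2, .inl e3⟩

theorem card_orbits {H : Subgroup G} {a b : Ω}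
    (t2 : ∀ x y : Ω, x ≠ y → ∃ g ∈ H, g • a = x ∧ g • b = y) (h : Two H a b) :
    Nat.card (orbitRel.Quotient H (Fin 3 ↪ Ω)) ≤ 2 := by
  classical
  obtain ⟨c, d, h⟩ := h
  have key : ∀ t : Fin 3 ↪ Ω, ∃ g ∈ H, g • a = t 0 ∧ g • b = t 1 ∧ (g • c = t 2 ∨ g • d = t 2) := by
    intro t
    obtain ⟨g, hg, e1, e2⟩ := t2 (t 0) (t 1) (t.injective.ne (by decide))
    obtain ⟨u, hu, f1, f2, f3⟩ := h (g⁻¹ • t 2)
      (fun e => t.injective.ne (show (0 : Fin 3) ≠ 2 by decide) (by rw [← e1, ← e, smul_inv_smul]))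
      fun e => t.injective.ne (show (1 : Fin 3) ≠ 2 by decide) (by rw [← e2, ← e, smul_inv_smul])
    exact ⟨g * u, mul_mem hg hu, by rw [mul_smul, f1, e1], by rw [mul_smul, f2, e2],
      f3.imp (fun e => by rw [mul_smul, e, smul_inv_smul]) fun e => by rw [mul_smul, e, smul_inv_smul]⟩
  have k2 : ∀ (x : Ω) (s t : Fin 3 ↪ Ω), (∃ g ∈ H, g • a = s 0 ∧ g • b = s 1 ∧ g • x = s 2) →
      (∃ g ∈ H, g • a = t 0 ∧ g • b = t 1 ∧ g • x = t 2) → orbitRel H _ s t := by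
    rintro x s t ⟨g, hg, e1, e2, e3⟩ ⟨g', hg', f1, f2, f3⟩
    refine ⟨⟨g * g'⁻¹, mul_mem hg (inv_mem hg')⟩, Function.Embedding.ext fun i => ?_⟩
    change (g * g'⁻¹) • t i = s i
    fin_cases i
    · change _ • t 0 = s 0; rw [← f1, mul_smul, inv_smul_smul, e1]
    · change _ • t 1 = s 1; rw [← f2, mul_smul, inv_smul_smul, e2]
    · change _ • t 2 = s 2; rw [← f3, mul_smul, inv_smul_smul, e3]
  refine (Nat.card_le_card_of_injective (fun q : orbitRel.Quotient H (Fin 3 ↪ Ω) =>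
    decide (∃ g ∈ H, g • a = q.out 0 ∧ g • b = q.out 1 ∧ g • c = q.out 2)) fun q r e => ?_).trans
    (by simp)
  rw [← q.out_eq', ← r.out_eq']
  refine Quotient.sound' ?_
  simp only [decide_eq_decide] at e
  by_cases h1 : ∃ g ∈ H, g • a = q.out 0 ∧ g • b = q.out 1 ∧ g • c = q.out 2
  · exact k2 c _ _ h1 (e.1 h1)
  · have h2 := mt e.2 h1
    obtain ⟨g, hg, e1, e2, e3⟩ := key q.out
    obtain ⟨g', hg', f1, f2, f3⟩ := key r.out
    exact k2 d _ _ ⟨g, hg, e1, e2, e3.resolve_left fun e => h1 ⟨g, hg, e1, e2, e⟩⟩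
      ⟨g', hg', f1, f2, f3.resolve_left fun e => h2 ⟨g', hg', f1, f2, e⟩⟩

end

variable {G Ω : Type*} [Group G] [Finite G] [Fintype Ω] [MulAction G Ω] [FaithfulSMul G Ω]

theorem exists_fix (mt : IsMultiplyPretransitive G Ω 3) (three : 3 ∣ Nat.card Ω)
    (h3 : 3 < Nat.card Ω) (N : Subgroup G) [hN : N.Normal] (h0 : N ≠ ⊥) (a : Ω) :
    ∃ n ∈ N, n ≠ 1 ∧ n • a = a := by
  by_contra! hh
  haveI : Fact (Nat.Prime 3) := ⟨Nat.prime_three⟩
  have : IsPreprimitive G Ω :=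
    isPreprimitive_of_is_two_pretransitive (H2.Pm.mt_le (m := 2) mt (by norm_num) h3.le)
  have := H2.Pm.normal_trans' (X := Ω) N h0
  have : Nonempty Ω := ⟨a⟩
  obtain ⟨⟨u, hu⟩, h1⟩ := exists_prime_orderOf_dvd_card' 3 (three.trans (H2.Pm.card_dvd_of_trans (G := N)))
  rw [← orderOf_coe] at h1
  have u1 : u ≠ 1 := by rintro rfl; simp at h1
  have u2 : u * u ≠ 1 := fun e => by
    have := orderOf_dvd_of_pow_eq_one ((pow_two u).trans e)
    rw [show orderOf u = 3 from h1] at this; omega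
  have k1 := hh u hu u1
  have k2 := hh _ (mul_mem hu hu) u2
  have k3 : u • a ≠ (u * u) • a := fun e => k1 (MulAction.injective u ((mul_smul u u a).symm.trans e.symm))
  obtain ⟨d, d1, d2, d3⟩ := exists_avoid h3 a (u • a) ((u * u) • a)
  obtain ⟨g, e1, e2, e3⟩ := H2.Pm.mt_three_iff.1 mt a (u • a) _ a (u • a) d k1.symm k2.symm k3
    k1.symm d1.symm d2.symm
  have k4 : u⁻¹ * (g * u * g⁻¹) = 1 := by_contra fun e => hh _ (mul_mem (inv_mem hu)
    (hN.conj_mem u hu g)) e (by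
      rw [mul_smul, mul_smul, inv_smul_eq_iff.2 e1.symm, mul_smul, e2, inv_smul_smul])
  rw [inv_mul_eq_one, eq_mul_inv_iff_mul_eq] at k4
  exact d3 (by rw [← e3, mul_smul, ← mul_smul g, ← k4, mul_smul, e2])

/-- a simple normal subgroup -/
structure Bs (Ω : Type*) [MulAction G Ω] (H : Subgroup G) : Prop where
  mt : IsMultiplyPretransitive G Ω 3
  three : 3 ∣ Nat.card Ω
  big : 3 < Nat.card Ω
  simple : IsSimpleGroup H

theorem exists_bs (mt : IsMultiplyPretransitive G Ω 3) (three : 3 ∣ Nat.card Ω)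
    (h3 : 3 < Nat.card Ω) (H : Subgroup G) [hH : H.Normal] (h0 : H ≠ ⊥) :
    ∃ N ≤ H, N.Normal ∧ Bs Ω N := by
  obtain ⟨N, hN, hle⟩ := H2.exists_isMinNormal_le hH h0
  have := hN.normal
  refine ⟨N, hle, this, mt, three, h3, ((H2.Pm.burnside_min_normal (H2.Pm.mt_le (m := 2) mt
    (by norm_num) h3.le) N hN.ne_bot hN.min).resolve_left fun e => ?_).1⟩
  obtain ⟨a, -⟩ := exists_avoid h3 (Nat.card_pos_iff.1 (by omega)).1.some
    (Nat.card_pos_iff.1 (by omega)).1.some (Nat.card_pos_iff.1 (by omega)).1.some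
  obtain ⟨n, hn, n1, e1⟩ := exists_fix mt three h3 N hN.ne_bot a
  exact n1 (e.2.2 n hn a e1)

namespace Bs
variable {H : Subgroup G} [hH : H.Normal] (h : Bs Ω H)
include h

theorem t3 : T3 G Ω := H2.Pm.mt_three_iff.1 h.mt

theorem ne_bot : H ≠ ⊥ := have := h.simple; (nontrivial_iff_ne_bot H).1 inferInstance

theorem t1 (c d : Ω) : ∃ g ∈ H, g • c = d := by
  have : IsPreprimitive G Ω :=
    isPreprimitive_of_is_two_pretransitive (H2.Pm.mt_le (m := 2) h.mt (by norm_num) h.big.le)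
  exact (H2.Pm.trans_subgroup_iff H).1 (H2.Pm.normal_trans' H h.ne_bot) c d

theorem exists_min (a : Ω) : ∃ M : Subgroup G, M ≤ H ∧ (∀ v ∈ M, v • a = a) ∧
    (∀ g : G, g • a = a → ∀ v ∈ M, g * v * g⁻¹ ∈ M) ∧
    (∀ c d : Ω, c ≠ a → d ≠ a → ∃ v ∈ M, v • c = d) ∧
    (((∀ u ∈ M, ∀ v ∈ M, u * v = v * u) ∧ ∃ p : ℕ, p.Prime ∧ ∀ v ∈ M, v ^ p = 1) ∨
      (IsSimpleGroup M ∧ ¬ IsMulCommutative M ∧ ∀ b, b ≠ a → IsCoatom (stabilizer M b))) := by
  have h2 : IsMultiplyPretransitive (stabilizer G a) (SubMulAction.ofStabilizer G a) 2 :=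
    H2.Pm.mt_two_iff.2 fun b c b' c' e e' => by
      obtain ⟨g, e1, e2, e3⟩ := h.t3 a b c a b' c' (Ne.symm b.2) (Ne.symm c.2)
        (fun e1 => e (Subtype.ext e1)) (Ne.symm b'.2) (Ne.symm c'.2) fun e1 => e' (Subtype.ext e1)
      exact ⟨⟨g, e1⟩, Subtype.ext e2, Subtype.ext e3⟩
  haveI : FaithfulSMul (stabilizer G a) (SubMulAction.ofStabilizer G a) :=
    ⟨fun {x y} e => Subtype.ext (eq_of_smul_eq_smul (α := Ω) fun c => by
      by_cases ca : c = a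
      · rw [ca, show x.1 • a = a from x.2, show y.1 • a = a from y.2]
      · exact congrArg Subtype.val (e ⟨c, ca⟩))⟩
  obtain ⟨n, hn, n1, na⟩ := exists_fix h.mt h.three h.big H h.ne_bot a
  obtain ⟨M, hM, hle⟩ := H2.exists_isMinNormal_le (N := H.subgroupOf (stabilizer G a)) inferInstance
    fun e => n1 (congrArg Subtype.val (mem_bot.1 (e.le (show ⟨n, na⟩ ∈ H.subgroupOf _ from hn))))
  have := hM.normal
  have := isPreprimitive_of_is_two_pretransitive h2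
  have ht := (H2.Pm.trans_subgroup_iff M).1 (H2.Pm.normal_trans'
    (X := SubMulAction.ofStabilizer G a) M hM.ne_bot)
  let e := equivMapOfInjective M _ (stabilizer G a).subtype_injective
  refine ⟨M.map (stabilizer G a).subtype, by rintro _ ⟨v, hv, rfl⟩; exact hle hv,
    by rintro _ ⟨v, -, rfl⟩; exact v.2,
    by rintro g hg _ ⟨v, hv, rfl⟩; exact ⟨_, hM.normal.conj_mem v hv ⟨g, hg⟩, rfl⟩,
    fun c d ca da => let ⟨g, hg, e⟩ := ht ⟨c, ca⟩ ⟨d, da⟩; ⟨g, ⟨g, hg, rfl⟩, congrArg Subtype.val e⟩, ?_⟩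
  have hc : (∀ u ∈ M, ∀ v ∈ M, u * v = v * u) → ∀ u ∈ M.map (stabilizer G a).subtype,
      ∀ v ∈ M.map (stabilizer G a).subtype, u * v = v * u := by
    rintro h1 _ ⟨u, hu, rfl⟩ _ ⟨v, hv, rfl⟩; exact congrArg Subtype.val (h1 u hu v hv)
  rcases H2.Pm.burnside_min_normal h2 M hM.ne_bot hM.min with ⟨h1, ⟨p, hp, h3⟩, -⟩ | ⟨h1, h3⟩
  · exact .inl ⟨hc h1, p, hp, by rintro _ ⟨v, hv, rfl⟩; exact congrArg Subtype.val (h3 v hv)⟩
  by_cases h4 : IsMulCommutative M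
  · letI : CommGroup M := ⟨h4.1.1⟩
    refine .inl ⟨hc fun u hu v hv => congrArg Subtype.val (h4.1.1 ⟨u, hu⟩ ⟨v, hv⟩), Nat.card M,
      IsSimpleGroup.prime_card, ?_⟩
    rintro _ ⟨v, hv, rfl⟩
    exact congrArg (fun x : M => x.1.1) (pow_card_eq_one' (x := (⟨v, hv⟩ : M)))
  refine .inr ⟨e.symm.isSimpleGroup, fun h5 => h4 ⟨⟨fun x y => e.injective (by
    rw [map_mul, map_mul, h5.1.1])⟩⟩, fun b ba => ?_⟩
  obtain ⟨c, ca, cb, -⟩ := exists_avoid h.big a b b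
  have : Nontrivial (SubMulAction.ofStabilizer G a) :=
    ⟨⟨⟨c, ca⟩, ⟨b, ba⟩, fun e => cb (congrArg Subtype.val e)⟩⟩
  have h5 := IsPreprimitive.isCoatom_stabilizer_of_isPreprimitive M
    (⟨b, ba⟩ : SubMulAction.ofStabilizer G a)
  refine (isCoatom_comap e).1 ?_
  convert h5
  ext x
  exact ⟨fun e1 => Subtype.ext e1, fun e1 => congrArg Subtype.val e1⟩

theorem t2 (c d c' d' : Ω) (h1 : c ≠ d) (h2 : c' ≠ d') : ∃ g ∈ H, g • c = c' ∧ g • d = d' := by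
  obtain ⟨x, hx, rfl⟩ := h.t1 c c'
  obtain ⟨M, hM, ha, -, ht, -⟩ := h.exists_min (x • c)
  obtain ⟨v, hv, e⟩ := ht (x • d) d' (fun e => h1 (MulAction.injective x e).symm) h2.symm
  exact ⟨v * x, mul_mem (hM hv) hx, by rw [mul_smul, ha v hv], by rw [mul_smul, e]⟩

theorem aff_or (ev : Even (Nat.card Ω)) {a b : Ω} (ab : a ≠ b) : (∃ V p, Aff H V a b p) ∨
    ∃ M ≤ H ⊓ stabilizer G a, IsSimpleGroup M ∧ ¬ IsMulCommutative M ∧ IsCoatom (stabilizer M b) ∧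
      ∀ c d : Ω, c ≠ a → d ≠ a → ∃ v ∈ M, v • c = d := by
  obtain ⟨M, hM, ha, hn, ht, ⟨hc, p, hp, he⟩ | ⟨h1, h2, h3⟩⟩ := h.exists_min a
  · refine .inl ⟨M, p, h.mt, h.three, ev, h.simple, ab, hM, ha, hn, hc, hp, he, ht,
      fun v hv c ca e => eq_of_smul_eq_smul (α := Ω) fun x => ?_⟩
    rw [one_smul]
    by_cases xa : x = a
    · rw [xa, ha v hv]
    · obtain ⟨u, hu, rfl⟩ := ht c x ca xa
      rw [← mul_smul, hc v hv u hu, mul_smul, e]
  · exact .inr ⟨M, fun v hv => ⟨hM hv, ha v hv⟩, h1, h2, h3 b ab.symm, ht⟩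

theorem two_of_three' (h3 : ∀ t ∈ H, ∀ x : Ω, t • x = x → t ^ 3 = 1 → t = 1) {a b : Ω}
    (ab : a ≠ b) : Two H a b := by
  rcases Nat.even_or_odd (Nat.card Ω) with ev | od
  swap
  · exact two_of_three h.big (H2.Pm.wagner od (by have := h.three; have := h.big; omega) h.mt H
      h.ne_bot) ab
  rcases h.aff_or ev ab with ⟨V, p, hA⟩ | ⟨M, hM, h1, h2, h4, ht⟩
  · exact hA.two (hA.ds_of_three fun t ht => h3 t ht a)
  haveI : Fact (Nat.Prime 3) := ⟨Nat.prime_three⟩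
  obtain ⟨-, -, -, -, h5⟩ := sz_facts h2 fun e => by
    obtain ⟨t, ht⟩ := exists_prime_orderOf_dvd_card' 3 e
    have := h3 t (hM t.2).1 a (hM t.2).2 (by rw [← ht, ← coe_pow, pow_orderOf_eq_one]; rfl)
    rw [show t = 1 from Subtype.ext this, orderOf_one] at ht
    exact absurd ht (by norm_num)
  have h6 : Odd (stabilizer M b).index := by
    have := relIndex_stab M b {a}ᶜ fun y => ⟨fun hy => ht b y ab.symm hy, by
      rintro ⟨k, hk, rfl⟩ e
      exact ab (MulAction.injective k (Eq.trans (hM hk).2 e.symm))⟩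
    rw [show (stabilizer M b).index = _ from this, Set.ncard_compl, Set.ncard_singleton]
    exact Nat.Even.sub_odd (by have := h.big; omega) ev odd_one
  obtain ⟨c, ca, cb, -⟩ := exists_avoid h.big a b b
  obtain ⟨x, hx, rfl⟩ := ht b c ab.symm ca
  refine ⟨x • b, x • b, fun d da db => ?_⟩
  obtain ⟨y, hy, rfl⟩ := ht b d ab.symm da
  obtain ⟨l, hl, e⟩ := h5 _ h4 h6 ⟨x, hx⟩ cb ⟨y, hy⟩ db
  refine ⟨l, (hM l.2).1, (hM l.2).2, hl, .inl ?_⟩
  have : (y⁻¹ * l * x) • b = b := e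
  rwa [mul_smul, mul_smul, inv_smul_eq_iff] at this

end Bs

theorem base (mt : IsMultiplyPretransitive G Ω 3) (three : 3 ∣ Nat.card Ω) (big : 3 < Nat.card Ω)
    (H : Subgroup G) [H.Normal] (h0 : H ≠ ⊥)
    (h3 : ∀ t ∈ H, ∀ x : Ω, t • x = x → t ^ 3 = 1 → t = 1) {a b : Ω} (ab : a ≠ b) : Two H a b := by
  obtain ⟨N, hN, _, h⟩ := exists_bs mt three big H h0
  exact (h.two_of_three' (fun t ht => h3 t (hN ht)) ab).mono hN

omit [FaithfulSMul G Ω] in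
theorem base' (mt : T3 G Ω) (three : 3 ∣ Nat.card Ω) (big : 3 < Nat.card Ω)
    (H : Subgroup G) [hH : H.Normal] (h0 : ∃ g ∈ H, ∃ x : Ω, g • x ≠ x)
    (h3 : ∀ t ∈ H, ∀ x : Ω, t • x = x → (∀ y : Ω, t ^ 3 • y = y) → ∀ y : Ω, t • y = y) {a b : Ω}
    (ab : a ≠ b) : Two H a b := by
  classical
  let φ := (toPermHom G Ω).rangeRestrict
  have hφ : Function.Surjective φ := (toPermHom G Ω).rangeRestrict_surjective
  haveI := hH.map φ hφ
  obtain ⟨c, d, h⟩ := base (G := (toPermHom G Ω).range) (H2.Pm.mt_three_iff.2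
    fun a b c a' b' c' e1 e2 e3 e4 e5 e6 =>
      let ⟨g, e⟩ := mt a b c a' b' c' e1 e2 e3 e4 e5 e6; ⟨φ g, e⟩) three big (H.map φ) (fun e => by
    obtain ⟨g, hg, x, hx⟩ := h0
    have := mem_bot.1 (e.le (mem_map_of_mem φ hg))
    exact hx (show φ g • x = x by rw [this, one_smul])) (by
    rintro _ ⟨t, ht, rfl⟩ x tx t3
    refine Subtype.ext (Equiv.ext (h3 t ht x tx fun y => ?_))
    change φ (t ^ 3) • y = y
    rw [map_pow, t3, one_smul]) ab
  refine ⟨c, d, fun x xa xb => ?_⟩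
  obtain ⟨_, ⟨g, hg, rfl⟩, e⟩ := h x xa xb
  exact ⟨g, hg, e⟩

end Cfsg.Agent.H15J
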