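import Cfsg.Agent.H15J.F

/-! Reduction to the fixed points of a Sylow 3-subgroup, and the degrees divisible by four. -/

set_option autoImplicit false
set_option linter.style.haveILetI false
set_option linter.unusedSectionVars false

namespace Cfsg.Agent.H15J

open Subgroup MulAction
open scoped commutatorElement MatrixGroups Pointwise

variable {G Ω : Type*} [Group G] [Finite G] [Fintype Ω] [MulAction G Ω] [FaithfulSMul G Ω]

namespace Bs
variable {H : Subgroup G} [hH : H.Normal] (h : Bs Ω H)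
include h

theorem card_Ha (a : Ω) : Nat.card ↥(H ⊓ stabilizer G a) * Nat.card Ω = Nat.card H := by
  rw [← card_stab_mul H a Set.univ fun y => by simpa using h.t1 a y, Set.ncard_univ]

theorem relIndex_Y {a b : Ω} (ab : a ≠ b) :
    (stabilizer G b).relIndex (H ⊓ stabilizer G a) = Nat.card Ω - 1 := by
  rw [relIndex_stab (H ⊓ stabilizer G a) b {a}ᶜ fun y => ⟨fun hy => ?_, ?_⟩, Set.ncard_compl,
    Set.ncard_singleton]
  · obtain ⟨v, hv, e1, e2⟩ := h.t2 a b a y ab (Ne.symm hy)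
    exact ⟨v, ⟨hv, e1⟩, e2⟩
  · rintro ⟨k, hk, rfl⟩ e
    exact ab (MulAction.injective k (Eq.trans hk.2 e.symm))

theorem relIndex_Z {a b c : Ω} (ab : a ≠ b) (ca : c ≠ a) (cb : c ≠ b) :
    (stabilizer G c).relIndex (H ⊓ stabilizer G a ⊓ stabilizer G b) ∣ Nat.card Ω - 2 := by
  rw [← Set.ncard_pair ab, ← Set.ncard_compl, ← relIndex_stab (stabilizer G a ⊓ stabilizer G b) c
    {a, b}ᶜ fun y => ⟨fun hy => ?_, ?_⟩]
  · rw [inf_assoc]
    exact relIndex_dvd_step _ inf_le_right (H10.le_normalizer_inf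
      (by rw [normalizer_eq_top]; exact le_top) le_normalizer)
  · obtain ⟨g, e1, e2, e3⟩ := h.t3 a b c a b y ab ca.symm cb.symm ab
      (fun e => hy (.inl e.symm)) fun e => hy (.inr e.symm)
    exact ⟨g, ⟨e1, e2⟩, e3⟩
  · rintro ⟨k, hk, rfl⟩ (e | e)
    · exact ca (MulAction.injective k (Eq.trans e hk.1.symm))
    · exact cb (MulAction.injective k (Eq.trans e hk.2.symm))

theorem two {a b : Ω} (ab : a ≠ b) : Two H a b := by
  classical
  haveI : Fact (Nat.Prime 3) := ⟨Nat.prime_three⟩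
  obtain ⟨c, ca, cb, -⟩ := exists_avoid h.big a b b
  have h1 := h.three
  have h2 := h.big
  obtain ⟨P, hP⟩ := H1.exists_isSylowIn 3 (H ⊓ stabilizer G a ⊓ stabilizer G b ⊓ stabilizer G c)
  have hP2 := hP.trans inf_le_left (by
    rw [inf_comm, inf_relIndex_right]
    exact fun e => by have := e.trans (h.relIndex_Z ab ca cb); omega)
  have hP1 := hP2.trans inf_le_left (by
    rw [inf_comm, inf_relIndex_right, h.relIndex_Y ab]; omega)
  have PH : P ≤ H := hP1.le.trans inf_le_left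
  have hs : ∀ x : Ω, (∀ s ∈ P, s • x = x) → H1.IsSylowIn 3 P (H ⊓ stabilizer G x) := fun x hx => by
    have hle : P ≤ H ⊓ stabilizer G x := fun s hs => ⟨PH hs, hx s hs⟩
    refine ⟨hle, hP.isPGroup, ?_⟩
    have e1 := H1.card_inf_mul_relIndex P (H ⊓ stabilizer G x)
    have e2 := H1.card_inf_mul_relIndex P (H ⊓ stabilizer G a)
    rw [inf_eq_left.2 hle, Nat.eq_of_mul_eq_mul_right (by omega)
      ((h.card_Ha x).trans (h.card_Ha a).symm), ← e2, inf_eq_left.2 hP1.le] at e1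
    rw [Nat.eq_of_mul_eq_mul_left Nat.card_pos e1]
    exact hP1.not_dvd
  have witt : ∀ (K : Subgroup G) (x : Ω), (∀ s ∈ P, s • x = x) → P ≤ K → K ≤ H ⊓ stabilizer G x →
      ∀ g : G, (∀ s ∈ P, g * s * g⁻¹ ∈ K) → ∃ k ∈ K, k * g ∈ normalizer (P : Set G) := by
    intro K x hx h3 h4 g hg
    have h5 := (hs x hx).of_le h3 h4
    obtain ⟨k, hk, e⟩ := (h5.of_card_eq (Q := MulAut.conj g • P) (by
      rintro _ ⟨s, hs, rfl⟩; exact hg s hs) (H1.card_conj_smul g P)).exists_conj_eq h5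
    refine ⟨k, hk, mem_normalizer_fintype fun s hs => e.le ⟨_, ⟨s, hs, rfl⟩, ?_⟩⟩
    change k * (g * s * g⁻¹) * k⁻¹ = _
    group
  have conj : ∀ (g s : G) (x : Ω), s • x = x → ∀ y, g • x = y → g * s * g⁻¹ ∈ stabilizer G y := by
    rintro g s x e _ rfl
    rw [mem_stabilizer_iff, mul_smul, inv_smul_smul, mul_smul, e]
  let N := normalizer (P : Set G)
  let F : SubMulAction N Ω := ⟨{x | ∀ s ∈ P, s • x = x}, fun g x hx s hs => by
    have := conj g.1 _ x (hx _ ((mem_normalizer_iff''.1 g.2 s).1 hs)) _ rfl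
    rwa [show g.1 * (g.1⁻¹ * s * g.1) * g.1⁻¹ = s by group] at this⟩
  have aF : a ∈ F := fun s hs => (hP.le hs).1.1.2
  have bF : b ∈ F := fun s hs => (hP.le hs).1.2
  have cF : c ∈ F := fun s hs => (hP.le hs).2
  have h3 : ∀ x, x ≠ a → x ≠ b → ∃ y ∈ H, y • a = a ∧ y • b = b ∧ y • x ∈ F := fun x xa xb => by
    obtain ⟨g, e1, e2, rfl⟩ := h.t3 a b c a b x ab ca.symm cb.symm ab xa.symm xb.symm
    obtain ⟨k, hk, e⟩ := witt _ a aF hP2.le inf_le_left g fun s hs =>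
      ⟨⟨hH.conj_mem _ (PH hs) g, conj g s a (aF s hs) _ e1⟩,
        conj g s b (bF s hs) _ e2⟩
    exact ⟨k, hk.1.1, hk.1.2, hk.2, by rw [← mul_smul]; exact F.smul_mem ⟨_, e⟩ cF⟩
  suffices ∃ c d : Ω, ∀ x ∈ F, x ≠ a → x ≠ b →
      ∃ h ∈ H, h • a = a ∧ h • b = b ∧ (h • c = x ∨ h • d = x) by
    obtain ⟨c, d, h4⟩ := this
    refine ⟨c, d, fun x xa xb => ?_⟩
    obtain ⟨y, hy, ya, yb, yx⟩ := h3 x xa xb
    obtain ⟨g, hg, ga, gb, e⟩ := h4 _ yx (fun e => xa (MulAction.injective y (e.trans ya.symm)))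
      fun e => xb (MulAction.injective y (e.trans yb.symm))
    refine ⟨y⁻¹ * g, mul_mem (inv_mem hy) hg, ?_, ?_, ?_⟩ <;>
      simp only [mul_smul, inv_smul_eq_iff, ga, gb, ya, yb, e]
  by_cases h4 : ∀ x ∈ F, x ≠ a → x ≠ b → x = c
  · exact ⟨c, c, fun x hx xa xb => ⟨1, one_mem _, one_smul _ _, one_smul _ _,
      .inl ((one_smul _ _).trans (h4 x hx xa xb).symm)⟩⟩
  push Not at h4
  obtain ⟨d, dF, da, db, dc⟩ := h4
  have := Fintype.ofFinite F
  obtain ⟨c', d', h5⟩ := base' (G := N) (Ω := F) (fun x y z x' y' z' e1 e2 e3 e4 e5 e6 => by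
      obtain ⟨g, f1, f2, f3⟩ := h.t3 x y z x' y' z' (Subtype.coe_ne_coe.2 e1) (Subtype.coe_ne_coe.2 e2)
        (Subtype.coe_ne_coe.2 e3) (Subtype.coe_ne_coe.2 e4) (Subtype.coe_ne_coe.2 e5)
        (Subtype.coe_ne_coe.2 e6)
      obtain ⟨k, hk, e⟩ := witt (H ⊓ stabilizer G x'.1 ⊓ stabilizer G y'.1 ⊓ stabilizer G z'.1) x'
        x'.2 (fun s hs => ⟨⟨⟨PH hs, x'.2 s hs⟩, y'.2 s hs⟩, z'.2 s hs⟩)
        (inf_le_left.trans inf_le_left) g fun s hs =>
        ⟨⟨⟨hH.conj_mem _ (PH hs) g, conj g s x (x.2 s hs) _ f1⟩,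
          conj g s y (y.2 s hs) _ f2⟩,
          conj g s z (z.2 s hs) _ f3⟩
      exact ⟨⟨_, e⟩, Subtype.ext ((mul_smul k g x.1).trans (f1 ▸ hk.1.1.2)),
        Subtype.ext ((mul_smul k g y.1).trans (f2 ▸ hk.1.2)),
        Subtype.ext ((mul_smul k g z.1).trans (f3 ▸ hk.2))⟩)
    (by
      have := hP.isPGroup.card_modEq_card_fixedPoints Ω
      rw [show Nat.card (fixedPoints P Ω) = Nat.card F from Nat.card_congr
        (Equiv.subtypeEquivRight fun x => ⟨fun e s hs => e ⟨s, hs⟩, fun e s => e s s.2⟩)] at this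
      exact (Nat.modEq_zero_iff_dvd.1 (this.symm.trans (Nat.modEq_zero_iff_dvd.2 h1))))
    (by
      rw [Nat.card_eq_fintype_card, ← Finset.card_univ, Finset.three_lt_card_iff]
      exact ⟨⟨a, aF⟩, ⟨b, bF⟩, ⟨c, cF⟩, ⟨d, dF⟩, Finset.mem_univ _, Finset.mem_univ _,
        Finset.mem_univ _, Finset.mem_univ _, by simpa using ab, by simpa using ca.symm,
        by simpa using da.symm, by simpa using cb.symm, by simpa using db.symm,
        by simpa using dc.symm⟩)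
    (H.subgroupOf N) (by
      obtain ⟨g, hg, e1⟩ := h.t1 a b
      obtain ⟨k, hk, e⟩ := witt _ b bF (hs b bF).le le_rfl g fun s hs =>
        ⟨hH.conj_mem _ (PH hs) g, conj g s a (aF s hs) _ e1⟩
      exact ⟨⟨_, e⟩, mul_mem hk.1 hg, ⟨a, aF⟩, fun e2 => ab ((congrArg Subtype.val e2).symm.trans
        ((mul_smul k g a).trans (e1 ▸ hk.2)))⟩)
    (fun t ht x tx t3 y => by
      obtain ⟨i, j, hj, e⟩ := Nat.exists_eq_pow_mul_and_not_dvd (orderOf_pos t).ne' 3 (by norm_num)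
      have k1 : (t ^ j).1 ∈ P := (hs x x.2).le_of_le_normalizer' (U := zpowers (t ^ j).1)
        (zpowers_le.2 ⟨pow_mem ht j, pow_mem (show t.1 ∈ stabilizer G x.1 from
          congrArg Subtype.val tx) j⟩)
        (IsPGroup.iff_card.2 ((Nat.dvd_prime_pow Nat.prime_three).1 (by
          rw [Nat.card_zpowers, orderOf_coe]
          exact orderOf_dvd_of_pow_eq_one (n := 3 ^ i) (by
            rw [← pow_mul, mul_comm, ← e, pow_orderOf_eq_one])) |>.imp fun _ e => e.2))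
        (zpowers_le.2 (t ^ j).2) (mem_zpowers _)
      have k2 : t ^ j ∈ stabilizer N y := Subtype.ext (y.2 _ k1)
      have k3 : t ^ 3 ∈ stabilizer N y := t3 y
      obtain ⟨u, v, e1⟩ := Nat.isCoprime_iff_coprime.2
        ((Nat.Prime.coprime_iff_not_dvd Nat.prime_three).2 hj)
      have k4 := mul_mem (zpow_mem k3 u) (zpow_mem k2 v)
      rwa [← zpow_natCast, ← zpow_natCast, ← zpow_mul, ← zpow_mul, ← zpow_add, mul_comm _ u,
        mul_comm _ v, e1, zpow_one] at k4)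
    (a := ⟨a, aF⟩) (b := ⟨b, bF⟩) (by simpa using ab)
  refine ⟨c', d', fun x hx xa xb => ?_⟩
  obtain ⟨g, hg, e1, e2, e3⟩ := h5 ⟨x, hx⟩ (by simpa using xa) (by simpa using xb)
  exact ⟨g, hg, congrArg Subtype.val e1, congrArg Subtype.val e2,
    e3.imp (congrArg Subtype.val) (congrArg Subtype.val)⟩

theorem no_invol (h4 : 4 ∣ Nat.card Ω) (h3 : ¬ IsMultiplyPretransitive H Ω 3) {t : G} (ht : t ∈ H)
    {a : Ω} (ta : t • a = a) (t2 : t * t = 1) : t = 1 := by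
  by_contra t1
  obtain ⟨b, cb⟩ := H2.Pm.exists_smul_ne (X := Ω) t1
  have ab : a ≠ b := fun e => cb (e ▸ ta)
  have ca : t • b ≠ a := fun e => ab (MulAction.injective t (ta.trans e.symm))
  have tc : t • t • b = b := by rw [← mul_smul, t2, one_smul]
  have hb := h.big
  have hY := h.relIndex_Y ab
  obtain ⟨c1, c2, h5⟩ := h.two ab
  generalize hc : t • b = c at cb ca tc
  set Y := H ⊓ stabilizer G a ⊓ stabilizer G b with hY0
  have k1 : ∀ x, x ≠ a → x ≠ b → (orbit Y x).ncard = (orbit Y c).ncard := fun x xa xb => by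
    obtain ⟨g, e1, e2, rfl⟩ := h.t3 a b c a b x ab ca.symm cb.symm ab xa.symm xb.symm
    have gn : g ∈ normalizer (Y : Set G) := by
      rw [hY0, inf_assoc]
      exact H10.le_normalizer_inf (by rw [normalizer_eq_top]; exact le_top) le_normalizer
        (show g ∈ stabilizer G a ⊓ stabilizer G b from ⟨e1, e2⟩)
    rw [← Set.ncard_image_of_injective (orbit Y c) (MulAction.injective g)]
    congr 1; ext z
    constructor
    · rintro ⟨y, rfl⟩
      exact ⟨_, ⟨⟨_, (mem_normalizer_iff''.1 gn y).1 y.2⟩, rfl⟩, by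
        change g • (g⁻¹ * y * g) • c = y.1 • g • c
        rw [mul_smul, mul_smul, smul_inv_smul]⟩
    · rintro ⟨_, ⟨y, rfl⟩, rfl⟩
      exact ⟨⟨_, (mem_normalizer_iff.1 gn y).1 y.2⟩, by
        change (g * y * g⁻¹) • g • c = g • y.1 • c
        rw [mul_smul, inv_smul_smul, mul_smul]⟩
  have k2 : ∀ x y : Ω, (∀ z, z ≠ a → z ≠ b → z ∈ orbit Y x ∨ z ∈ orbit Y y) → x ≠ a ∧ x ≠ b ∧
      x ∉ orbit Y y := fun x y hh => by
    by_contra! k3
    refine h3 (three_of (c := y) (fun u v => h.t2 a b u v ab) fun z za zb => ?_)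
    obtain ⟨g, e⟩ : z ∈ orbit Y y := (hh z za zb).elim (fun ⟨g, e⟩ => by
      have e' : g.1 • x = z := e
      rw [← orbit_eq_iff.2 (k3 (by rintro rfl; exact za (e'.symm.trans g.2.1.2))
        (by rintro rfl; exact zb (e'.symm.trans g.2.2)))]
      exact ⟨g, e⟩) id
    exact ⟨g, g.2.1.1, g.2.1.2, g.2.2, e⟩
  have k3 : ∀ z, z ≠ a → z ≠ b → z ∈ orbit Y c1 ∨ z ∈ orbit Y c2 := fun z za zb =>
    let ⟨g, hg, e1, e2, e⟩ := h5 z za zb
    e.imp (fun e => ⟨⟨g, ⟨hg, e1⟩, e2⟩, e⟩) fun e => ⟨⟨g, ⟨hg, e1⟩, e2⟩, e⟩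
  obtain ⟨a1, b1, n1⟩ := k2 c1 c2 k3
  obtain ⟨a2, b2, -⟩ := k2 c2 c1 fun z za zb => (k3 z za zb).symm
  have k4 : ∀ c, c ≠ a → c ≠ b → orbit Y c ⊆ {a, b}ᶜ := by
    rintro c ca cb _ ⟨y, rfl⟩ (e | e)
    · exact ca (MulAction.injective y.1 (Eq.trans e y.2.1.2.symm))
    · exact cb (MulAction.injective y.1 (Eq.trans e y.2.2.symm))
  have k5 : orbit Y c1 ∪ orbit Y c2 = {a, b}ᶜ := (Set.union_subset (k4 _ a1 b1) (k4 _ a2 b2)).antisymm
    fun z hz => k3 z (fun e => hz (.inl e)) fun e => hz (.inr e)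
  have k6 := congrArg Set.ncard k5
  rw [Set.ncard_union_eq (Set.disjoint_left.2 fun x e1 e2 =>
    n1 (by rw [← orbit_eq_iff.2 e2, orbit_eq_iff.2 e1]; exact mem_orbit_self c1)), k1 _ a1 b1,
    k1 _ a2 b2, Set.ncard_compl, Set.ncard_pair ab] at k6
  let D : Subgroup G :=
    { carrier := {g | g ∈ H ⊓ stabilizer G a ∧ (g • b = b ∧ g • c = c ∨ g • b = c ∧ g • c = b)}
      one_mem' := ⟨one_mem _, .inl ⟨one_smul _ _, one_smul _ _⟩⟩
      mul_mem' := by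
        rintro x y ⟨hx, e | e⟩ ⟨hy, e' | e'⟩ <;> refine ⟨mul_mem hx hy, ?_⟩ <;>
          simp [mul_smul, e.1, e.2, e'.1, e'.2]
      inv_mem' := by
        rintro x ⟨hx, e | e⟩ <;> refine ⟨inv_mem hx, ?_⟩ <;> simp [inv_smul_eq_iff, e.1, e.2] }
  have ZD : Y ⊓ stabilizer G c ≤ D := fun y hy => ⟨hy.1.1, .inl ⟨hy.1.2, hy.2⟩⟩
  have tD : t ∈ D := ⟨⟨ht, ta⟩, .inr ⟨hc, tc⟩⟩
  have k7 : (Y ⊓ stabilizer G c).relIndex D = 2 := H11.relIndex_eq_two_of tD
    (fun e => cb (hc.symm.trans e.1.2)) (by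
      rintro x ⟨hx, e | e⟩
      · exact .inl ⟨⟨hx, e.1⟩, e.2⟩
      · exact .inr ⟨⟨mul_mem hx tD.1, by change _ • _ = _; rw [mul_smul, hc, e.2]⟩,
          by change _ • _ = _; rw [mul_smul, tc, e.1]⟩)
  have k8 := relIndex_mul_relIndex _ _ _ ZD (show D ≤ H ⊓ stabilizer G a from fun x hx => hx.1)
  rw [← relIndex_mul_relIndex _ Y _ inf_le_left inf_le_left, k7, inf_comm Y, inf_relIndex_right,
    relIndex_stab Y c (orbit Y c) fun y => ⟨fun ⟨g, e⟩ => ⟨g, g.2, e⟩, fun ⟨g, hg, e⟩ => ⟨⟨g, hg⟩, e⟩⟩,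
    show Y.relIndex (H ⊓ stabilizer G a) = _ from (inf_relIndex_left _ _).trans hY] at k8
  refine Nat.not_even_iff_odd.2 (Odd.mul (a := (orbit Y c).ncard) (b := Nat.card Ω - 1) ?_ ?_)
    (k8 ▸ even_two_mul _) <;> rw [Nat.odd_iff] <;> omega

theorem psl (h4 : Nat.card Ω % 4 ≠ 2) : IsMultiplyPretransitive H Ω 3 ∨ ∃ (F : Type) (_ : Field F)
    (_ : Fintype F), Fintype.card F + 1 = Fintype.card Ω ∧ Nonempty (H ≃* PSL(2, F)) := by
  rcases Nat.even_or_odd (Nat.card Ω) with ev | od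
  swap
  · exact .inl (H2.Pm.wagner od (by have := h.three; have := h.big; omega) h.mt H h.ne_bot)
  by_cases h3 : IsMultiplyPretransitive H Ω 3
  · exact .inl h3
  have h5 : ∀ t ∈ H, ∀ c : Ω, t • c = c → t * t = 1 → t = 1 := fun t ht c tc t2 =>
    h.no_invol (by have := ev.two_dvd; omega) h3 ht tc t2
  obtain ⟨a⟩ : Nonempty Ω := (Nat.card_pos_iff.1 (by have := h.big; omega)).1
  obtain ⟨b, ba, -⟩ := exists_avoid h.big a a a
  rcases h.aff_or ev ba.symm with ⟨V, p, hA⟩ | ⟨M, hM, h1, h2, -⟩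
  · exact hA.psl (hA.ds_of_odd h5)
  · refine absurd ⟨⟨IsSimpleGroup.comm_iff_isSolvable.2 (FT.solvable_of_odd
      (H11.odd_card_iff_no_invol.2 fun t ht e => ?_))⟩⟩ h2
    obtain ⟨t1, t2⟩ := H11.orderOf_two_iff.1 e
    exact t1 (h5 t (hM ht).1 a (hM ht).2 t2)

end Bs

end Cfsg.Agent.H15J
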